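import Cfsg.Agent.Lib.AltCover.Cover
import Cfsg.Agent.Lib.LyInvol.Cover
import Cfsg.Agent.Lib.LyFusion.Cover
import Cfsg.Agent.Lib.McLType.Coord

/-!
# An involution centraliser that is a non-split double cover of an alternating group, and the point stabiliser

The preimage of the stabiliser of the points from the ninth on is a copy of the double cover of the alternating
group of degree eight.
-/

set_option autoImplicit false
set_option maxRecDepth 100000

namespace CfsgLib.CoverType

open Equiv Equiv.Perm CfsgLib.Presentations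

variable {G : Type*} [Group G] {n : ℕ}

/-- The involution inside its centraliser. -/
def tC (t : G) : Subgroup.centralizer ({t} : Set G) := ⟨t, Subgroup.mem_centralizer_singleton_iff.2 rfl⟩

/-- The projection of a non-split double cover is a perfect cover. -/
theorem exists_cover [Finite G] (hn : 5 ≤ n) {t : G} (ht : orderOf t = 2)
    (hcov : Cfsg.IsNonsplitDoubleCover (Subgroup.centralizer ({t} : Set G)) (alternatingGroup (Fin n))) :
    ∃ π : Subgroup.centralizer ({t} : Set G) →* alternatingGroup (Fin n), AltCover.Cover π (tC t) := by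
  obtain ⟨h2, ⟨e⟩, hns⟩ := hcov
  set C := Subgroup.centralizer ({t} : Set G)
  have htc : tC t ∈ Subgroup.center C := Subgroup.mem_center_iff.2 fun g =>
    Subtype.ext (Subgroup.mem_centralizer_singleton_iff.1 g.2)
  have hord : orderOf (tC t) = 2 := (Subgroup.orderOf_coe _).symm.trans ht
  have ht1 : tC t ≠ 1 := fun h => by rw [h, orderOf_one] at hord; omega
  have hz : Subgroup.center C = Subgroup.zpowers (tC t) := by
    symm
    refine Subgroup.eq_of_le_of_card_ge (Subgroup.zpowers_le.2 htc) ?_
    rw [h2, Nat.card_zpowers, hord]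
  have hcases : ∀ x ∈ Subgroup.center C, x = 1 ∨ x = tC t := by
    intro x hx
    rw [hz] at hx
    obtain ⟨m, rfl⟩ := Subgroup.mem_zpowers_iff.1 hx
    rw [← zpow_mod_orderOf, hord]
    rcases Int.emod_two_eq_zero_or_one m with h0 | h0 <;> simp [h0]
  let π : C →* alternatingGroup (Fin n) := e.toMonoidHom.comp (QuotientGroup.mk' (Subgroup.center C))
  have hker : ∀ x, π x = 1 ↔ x ∈ Subgroup.center C := fun x =>
    (e.map_eq_one_iff).trans (QuotientGroup.eq_one_iff x)
  have hs : Function.Surjective π := e.surjective.comp (QuotientGroup.mk'_surjective _)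
  refine ⟨π, hs, fun x => ?_, ht1, fun x => Subgroup.mem_center_iff.1 htc x, ?_⟩
  · rw [hker]
    refine ⟨hcases x, ?_⟩
    rintro (rfl | rfl)
    · exact one_mem _
    · exact htc
  · set D := commutator C with hD
    have hsurj : ∀ a, ∃ d ∈ D, π d = a := by
      have h3 : D.map π = ⊤ := by
        rw [hD, commutator_def, Subgroup.map_commutator, Subgroup.map_top_of_surjective π hs,
          ← commutator_def, commutator_alternatingGroup_eq_top (by rw [Nat.card_fin]; exact hn)]
      intro a
      obtain ⟨d, hd, rfl⟩ := (h3 ▸ Subgroup.mem_top a : a ∈ D.map π)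
      exact ⟨d, hd, rfl⟩
    by_cases htD : tC t ∈ D
    · refine eq_top_iff.2 fun x _ => ?_
      obtain ⟨d, hd, hdx⟩ := hsurj (π x)
      have hc : d⁻¹ * x ∈ D := by
        rcases hcases _ ((hker (d⁻¹ * x)).1 (by rw [map_mul, map_inv, hdx, inv_mul_cancel])) with h | h <;> rw [h]
        · exact one_mem _
        · exact htD
      simpa using D.mul_mem hd hc
    · refine absurd ?_ (hns D)
      refine Subgroup.isComplement'_of_card_mul_and_disjoint ?_ (disjoint_iff.2 ?_)
      · have hinj : Function.Injective (π.comp D.subtype) := by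
          refine (injective_iff_map_eq_one _).2 fun x hx => ?_
          rcases hcases _ ((hker x).1 hx) with h1 | h1
          · exact Subtype.ext h1
          · exact absurd x.2 (h1 ▸ htD)
        have hb : Function.Surjective (π.comp D.subtype) := fun a => by
          obtain ⟨d, hd, hda⟩ := hsurj a
          exact ⟨⟨d, hd⟩, hda⟩
        rw [Nat.card_congr (MulEquiv.ofBijective _ ⟨hinj, hb⟩).toEquiv, h2,
          Subgroup.card_eq_card_quotient_mul_card_subgroup (Subgroup.center C), Nat.card_congr e.toEquiv, h2,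
          mul_comm]
      · rw [Subgroup.eq_bot_iff_forall]
        exact fun x hx => (hcases x hx.1).resolve_right fun h1 => htD (h1 ▸ hx.2)

/-- The double cover of degree eight over the stabiliser of the points from the ninth on. -/
structure Below (t : G) (π : Subgroup.centralizer ({t} : Set G) →* alternatingGroup (Fin n)) where
  /-- The identification. -/
  iota : McLType.Cm →* G
  inj : Function.Injective iota
  map_t : iota McLType.tm = t
  mem : ∀ c, iota c ∈ Subgroup.centralizer ({t} : Set G)
  fix : ∀ c (i : Fin n), 8 ≤ i.val → (π ⟨iota c, mem c⟩ : Perm (Fin n)) i = i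
  range_of_fix : ∀ g : Subgroup.centralizer ({t} : Set G),
    (∀ i : Fin n, 8 ≤ i.val → (π g : Perm (Fin n)) i = i) → (g : G) ∈ iota.range

/-- The inclusion of degree eight. -/
noncomputable def inc8 (h : 8 ≤ n) : alternatingGroup (Fin 8) →* alternatingGroup (Fin n) where
  toFun b := ⟨(b : Perm (Fin 8)).viaFintypeEmbedding (Fin.castLEEmb h), mem_alternatingGroup.2 (by
    rw [viaFintypeEmbedding_sign]; exact mem_alternatingGroup.1 b.2)⟩
  map_one' := Subtype.ext (by
    refine Equiv.ext fun i => ?_
    show (1 : Perm (Fin 8)).viaFintypeEmbedding (Fin.castLEEmb h) i = i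
    by_cases hi : i ∈ Set.range (Fin.castLEEmb h)
    · obtain ⟨j, rfl⟩ := hi
      rw [viaFintypeEmbedding_apply_image]; rfl
    · rw [viaFintypeEmbedding_apply_notMem_range _ _ hi])
  map_mul' a b := Subtype.ext (Equiv.ext fun i => by
    show (a.1 * b.1).viaFintypeEmbedding (Fin.castLEEmb h) i =
      a.1.viaFintypeEmbedding (Fin.castLEEmb h) (b.1.viaFintypeEmbedding (Fin.castLEEmb h) i)
    by_cases hi : i ∈ Set.range (Fin.castLEEmb h)
    · obtain ⟨j, rfl⟩ := hi
      exact (viaFintypeEmbedding_apply_image _ _ _).trans ((congrArg _ (viaFintypeEmbedding_apply_image _ _ _)).trans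
        (viaFintypeEmbedding_apply_image _ _ _)).symm
    · rw [viaFintypeEmbedding_apply_notMem_range _ _ hi, viaFintypeEmbedding_apply_notMem_range _ _ hi,
        viaFintypeEmbedding_apply_notMem_range _ _ hi])

theorem inc8_apply (h : 8 ≤ n) (b : alternatingGroup (Fin 8)) (j : Fin 8) :
    (inc8 h b : Perm (Fin n)) (Fin.castLE h j) = Fin.castLE h ((b : Perm (Fin 8)) j) :=
  viaFintypeEmbedding_apply_image _ _ _

theorem inc8_fix (h : 8 ≤ n) (b : alternatingGroup (Fin 8)) {i : Fin n} (hi : 8 ≤ i.val) :
    (inc8 h b : Perm (Fin n)) i = i := by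
  refine viaFintypeEmbedding_apply_notMem_range _ _ fun ⟨j, e⟩ => ?_
  rw [← e] at hi
  exact absurd hi (not_le.2 j.isLt)

theorem inc8_injective (h : 8 ≤ n) : Function.Injective (inc8 h) := fun a b e =>
  Subtype.ext (Equiv.ext fun j => Fin.castLE_injective h (by rw [← inc8_apply, ← inc8_apply, e]))

/-- An element fixing the points from the ninth on comes from degree eight. -/
theorem exists_inc8 (h : 8 ≤ n) {a : alternatingGroup (Fin n)}
    (ha : ∀ i : Fin n, 8 ≤ i.val → (a : Perm (Fin n)) i = i) : ∃ b, inc8 h b = a := by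
  have hlt : ∀ j : Fin 8, ((a : Perm (Fin n)) (Fin.castLE h j)).val < 8 := by
    intro j
    by_contra hc
    have h1 := (a : Perm (Fin n)).injective (ha _ (not_lt.1 hc))
    rw [h1] at hc
    exact hc j.isLt
  let f : Fin 8 → Fin 8 := fun j => ⟨_, hlt j⟩
  have hf : Function.Injective f := fun x y e =>
    Fin.castLE_injective h ((a : Perm (Fin n)).injective (Fin.ext (Fin.ext_iff.1 e :)))
  let σ : Perm (Fin 8) := Equiv.ofBijective f (Finite.injective_iff_bijective.1 hf)
  have hσ : σ.viaFintypeEmbedding (Fin.castLEEmb h) = (a : Perm (Fin n)) := by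
    refine Equiv.ext fun i => ?_
    by_cases hi : i.val < 8
    · have hi' : i = Fin.castLE h ⟨i.val, hi⟩ := Fin.ext rfl
      rw [hi']
      exact (viaFintypeEmbedding_apply_image _ _ _).trans (Fin.ext rfl)
    · rw [ha i (not_lt.1 hi)]
      exact viaFintypeEmbedding_apply_notMem_range _ _ fun ⟨j, e⟩ => hi (e ▸ j.isLt)
  refine ⟨⟨σ, mem_alternatingGroup.2 ?_⟩, Subtype.ext hσ⟩
  rw [← viaFintypeEmbedding_sign σ (Fin.castLEEmb h), hσ]
  exact mem_alternatingGroup.1 a.2

theorem cyc_pair_apply : ∀ a b x : Fin 8, a = 0 ∨ a = 1 ∨ b = 0 ∨ b = 1 ∨ a = b ∨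
    Carmichael.cyc (0 : Fin 8) 1 a (Carmichael.cyc (0 : Fin 8) 1 b x) = swap 0 a (swap 1 b x) := by
  decide +kernel

theorem cyc_pair (a b : Fin 8) (h1 : a ≠ 0) (h2 : a ≠ 1) (h3 : b ≠ 0) (h4 : b ≠ 1) (h5 : a ≠ b) :
    Carmichael.cyc (0 : Fin 8) 1 a * Carmichael.cyc (0 : Fin 8) 1 b = swap 0 a * swap 1 b :=
  Equiv.ext fun x => by simpa [h1, h2, h3, h4, h5] using cyc_pair_apply a b x

/-- The preimage of the point stabiliser has coordinates. -/
theorem exists_below [Finite G] (h8 : 8 ≤ n) {t : G}
    {π : Subgroup.centralizer ({t} : Set G) →* alternatingGroup (Fin n)} (hπ : AltCover.Cover π (tC t)) :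
    Nonempty (Below t π) := by
  classical
  have hn : 5 ≤ n := le_trans (by norm_num) h8
  have hc : (0 : Fin 8) ≠ 1 := by decide
  have hcube : ∀ i : McLType.Idx8, ∃ y, π y = inc8 h8 (Carmichael.gen hc i) ∧ y ^ 3 = 1 := by
    intro i
    obtain ⟨y, hy⟩ := hπ.surj (inc8 h8 (Carmichael.gen hc i))
    rcases (hπ.ker (y ^ 3)).1 (by rw [map_pow, hy, ← map_pow, (Carmichael.gen_rels hc).cube, map_one]) with h | h
    · exact ⟨y, hy, h⟩
    · refine ⟨tC t * y, by rw [map_mul, hπ.map_z, one_mul, hy], ?_⟩
      have hcm : Commute (tC t) y := (hπ.central y).symm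
      rw [hcm.mul_pow, h, pow_succ (tC t) 2, pow_two, hπ.sq_z, one_mul, hπ.sq_z]
  choose y hy hy3 using hcube
  have L : LyInvol.Lifts (tC t) y := by
    refine ⟨hπ.sq_z, hπ.zne, hy3, fun i j hij => ?_, fun i => (hπ.central _).symm⟩
    rw [pow_two]
    refine hπ.dt_sq hn ?_
    rw [map_mul, hy, hy, ← map_mul]
    show (Perm.viaFintypeEmbedding
      ((Carmichael.gen hc i * Carmichael.gen hc j : alternatingGroup (Fin 8)) : Perm (Fin 8))
      (Fin.castLEEmb h8)).cycleType = _
    rw [Perm.viaFintypeEmbedding, cycleType_extendDomain, Subgroup.coe_mul, Carmichael.gen_val, Carmichael.gen_val]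
    obtain ⟨⟨a, ha⟩, ⟨b, hb⟩⟩ := i, j
    have hab : a ≠ b := fun e => hij (Subtype.ext e)
    rw [cyc_pair a b ha.1 ha.2 hb.1 hb.2 hab]
    exact AltCover.type22 0 a 1 b ⟨ha.1.symm, hb.2.symm, by decide, hb.1.symm, ha.2, hab⟩
  let w : McLType.Idx8 → McLType.Cm × Subgroup.centralizer ({t} : Set G) := fun i =>
    (McLType.xm (McLType.idxLetter i), y i)
  have LP : LyInvol.Lifts ((McLType.tm, tC t) : McLType.Cm × Subgroup.centralizer ({t} : Set G)) w :=
    ⟨Prod.ext McLType.lifts_model.sq L.sq, fun h => McLType.tm_ne_one (congrArg Prod.fst h),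
      fun i => Prod.ext (McLType.lifts_model.cube i) (L.cube i),
      fun i j hij => Prod.ext (McLType.lifts_model.pair i j hij) (L.pair i j hij),
      fun i => Prod.ext (McLType.lifts_model.comm i) (L.comm i)⟩
  obtain ⟨hDcard, htD, -⟩ := LyInvol.lifts_nonsplit (n := 8) (by norm_num) 0 1 hc LP
  have hYcard := (LyInvol.lifts_nonsplit (n := 8) (by norm_num) 0 1 hc L).1
  set Y := Subgroup.closure (Set.range y) with hY
  set D := Subgroup.closure (Set.range w) with hD
  have h1 : Function.Bijective ((MonoidHom.fst McLType.Cm _).comp D.subtype) :=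
    (McLType.surj_of_closure w (MonoidHom.fst _ _) McLType.closure_model).bijective_of_nat_card_le
      (by rw [hDcard, McLType.card_Cm]; decide)
  let p : D →* Subgroup.centralizer ({t} : Set G) := (MonoidHom.snd McLType.Cm _).comp D.subtype
  have hrange : p.range = Y := by
    rw [MonoidHom.range_eq_map, ← Subgroup.map_map, ← MonoidHom.range_eq_map, Subgroup.range_subtype, hD,
      MonoidHom.map_closure, ← Set.range_comp]
    rfl
  have hpinj : Function.Injective p := by
    have hb : Function.Bijective p.rangeRestrict := p.rangeRestrict_surjective.bijective_of_nat_card_le (by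
      rw [hDcard, hrange, hYcard])
    exact fun a b e => hb.1 (Subtype.ext e)
  let f : McLType.Cm →* Subgroup.centralizer ({t} : Set G) := p.comp (MulEquiv.ofBijective _ h1).symm.toMonoidHom
  have hfinj : Function.Injective f := hpinj.comp (MulEquiv.injective _)
  have hfY : f.range = Y := by
    rw [← hrange, MonoidHom.range_eq_map, ← Subgroup.map_map, ← MonoidHom.range_eq_map,
      MonoidHom.range_eq_top.2 (MulEquiv.surjective _), ← MonoidHom.range_eq_map]
  have hft : f McLType.tm = tC t := by
    have : (MulEquiv.ofBijective _ h1).symm McLType.tm = ⟨_, htD⟩ := by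
      rw [MulEquiv.symm_apply_eq]; rfl
    show p ((MulEquiv.ofBijective _ h1).symm McLType.tm) = tC t
    rw [this]; rfl
  have himg : Y.map π = (inc8 h8).range := by
    rw [MonoidHom.range_eq_map, ← Carmichael.gen_closure hc, MonoidHom.map_closure, MonoidHom.map_closure,
      ← Set.range_comp, ← Set.range_comp]
    exact congrArg _ (congrArg _ (funext hy))
  refine ⟨{ iota := (Subgroup.centralizer ({t} : Set G)).subtype.comp f
            inj := (Subgroup.centralizer ({t} : Set G)).subtype_injective.comp hfinj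
            map_t := congrArg Subtype.val hft
            mem := fun c => (f c).2
            fix := ?_
            range_of_fix := ?_ }⟩
  · intro c i hi
    obtain ⟨b, hb⟩ : π (f c) ∈ (inc8 h8).range := himg ▸ ⟨f c, hfY ▸ ⟨c, rfl⟩, rfl⟩
    show (π (f c) : Perm (Fin n)) i = i
    rw [← hb]
    exact inc8_fix h8 b hi
  · intro g hg
    obtain ⟨b, hb⟩ := exists_inc8 h8 hg
    obtain ⟨d, hd, hdb⟩ : π g ∈ Y.map π := himg ▸ ⟨b, hb⟩
    have hgY : g ∈ Y := by
      rcases hπ.eq_or hdb with h | h
      · exact h ▸ hd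
      · have htY : tC t ∈ Y := hfY ▸ ⟨_, hft⟩
        rw [h] at hd
        have := Y.mul_mem htY hd
        rwa [← mul_assoc, hπ.sq_z, one_mul] at this
    rw [← hfY] at hgY
    obtain ⟨c, rfl⟩ := hgY
    exact ⟨c, rfl⟩

end CfsgLib.CoverType
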