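import Cfsg.Agent.Lib.AltCover.Cover

/-!
# The centraliser of an involution in a perfect double cover of an alternating group

Two properties separate the central element `z` from the involution `s` inside the centraliser of `s`: `z` is
the square of an element of a normal two-subgroup, `s` is not if it moves more than eight points; if `s` fixes
at least four points, `z` lies in each normal subgroup with an element of order three, and `s` does not.
-/

set_option autoImplicit false

namespace CfsgLib.CoverType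

open Equiv Equiv.Perm
open CfsgLib.AltCover (Cover)
open scoped commutatorElement

variable {H : Type*} [Group H] {n : ℕ} {f : H →* alternatingGroup (Fin n)} {z : H}

/-- The image as a permutation. -/
def img (f : H →* alternatingGroup (Fin n)) : H →* Perm (Fin n) := (alternatingGroup (Fin n)).subtype.comp f

section Lifts

variable (hf : Cover f z)
include hf

theorem exists_lift {a : Perm (Fin n)} (ha : sign a = 1) : ∃ x : H, img f x = a := by
  obtain ⟨x, hx⟩ := hf.surj ⟨a, mem_alternatingGroup.2 ha⟩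
  exact ⟨x, congrArg Subtype.val hx⟩

theorem eq_or_img {x y : H} (h : img f x = img f y) : x = y ∨ x = z * y := hf.eq_or (Subtype.ext h)

theorem img_eq_one {x : H} : img f x = 1 ↔ x = 1 ∨ x = z := by
  rw [← hf.ker]
  exact ⟨fun h => Subtype.ext h, fun h => congrArg Subtype.val h⟩

/-- A lift of order dividing three. -/
theorem exists_lift_cube {a : Perm (Fin n)} (ha : a ^ 3 = 1) : ∃ x : H, img f x = a ∧ x ^ 3 = 1 := by
  have hs : sign a = 1 := by
    have h : (sign a) ^ 3 = 1 := by rw [← map_pow, ha, map_one]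
    rcases Int.units_eq_one_or (sign a) with e | e
    · exact e
    · rw [e] at h; exact absurd h (by decide)
  obtain ⟨x, hx⟩ := exists_lift hf hs
  rcases (img_eq_one hf).1 (by rw [map_pow, hx, ha] : img f (x ^ 3) = 1) with h | h
  · exact ⟨x, hx, h⟩
  · have hz : img f z = 1 := (img_eq_one hf).2 (.inr rfl)
    refine ⟨z * x, by rw [map_mul, hz, one_mul, hx], ?_⟩
    have hcm : Commute z x := (hf.central x).symm
    rw [hcm.mul_pow, h, pow_succ z 2, pow_two, hf.sq_z, one_mul, hf.sq_z]

/-- Conjugation multiplies a commuting image by a central element. -/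
theorem conj_eq_central {x y : H} (h : Commute (img f x) (img f y)) :
    ∃ e : H, x * y * x⁻¹ = e * y ∧ (∀ g, g * e = e * g) ∧ e * e = 1 := by
  have h1 : img f (x * y * x⁻¹) = img f y := by
    rw [map_mul, map_mul, map_inv, h.eq, mul_inv_cancel_right]
  rcases eq_or_img hf h1 with e | e
  · exact ⟨1, by rw [e, one_mul], fun g => by simp, one_mul 1⟩
  · exact ⟨z, e, hf.central, hf.sq_z⟩

/-- An element of order dividing three commutes with what its image commutes with. -/
theorem commute_of_img_cube {x y : H} (hx : x ^ 3 = 1) (h : Commute (img f x) (img f y)) : Commute x y := by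
  obtain ⟨e, he, hec, hee⟩ := conj_eq_central hf h
  have h2 : x * (e * y) * x⁻¹ = y := by
    rw [← mul_assoc x e y, hec, mul_assoc e x y, mul_assoc e, he, ← mul_assoc, hee, one_mul]
  have h3 : x * (x * (x * y * x⁻¹) * x⁻¹) * x⁻¹ = y := by
    rw [show x * (x * (x * y * x⁻¹) * x⁻¹) * x⁻¹ = x ^ 3 * y * (x ^ 3)⁻¹ by
      simp [pow_succ, mul_assoc], hx]
    group
  rw [he, h2, he] at h3
  have : e = 1 := mul_right_cancel (h3.trans (one_mul y).symm)
  rw [this, one_mul] at he
  exact mul_inv_eq_iff_eq_mul.1 he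

/-- The three-cycle written as two transpositions commutes with a permutation fixing its points. -/
theorem commute_swaps_fixed {r : Perm (Fin n)} {a b c d : Fin n} (ha : r a = a) (hb : r b = b) (hc : r c = c)
    (hd : r d = d) : Commute (swap a b * swap c d) r := by
  have key : ∀ p q, r p = p → r q = q → Commute (swap p q) r := fun p q hp hq => by
    have := swap_apply_apply r p q
    rw [hp, hq] at this
    exact (eq_mul_inv_iff_mul_eq.1 this)
  exact (key a b ha hb).mul_left (key c d hc hd)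

omit hf in
theorem klein_commutator {a b c d : Fin n} (hab : a ≠ b) (hcd : c ≠ d) (hac : a ≠ c) (had : a ≠ d)
    (hbc : b ≠ c) (hbd : b ≠ d) :
    (swap a b * swap b d * (swap a b * swap b c))⁻¹ * (swap a b * swap b c * (swap a b * swap b d)) =
      swap a b * swap c d := by
  rw [mul_inv_rev, mul_inv_rev, mul_inv_rev, swap_inv, swap_inv, swap_inv]
  ext x
  by_cases h1 : x = a
  · subst h1; simp [swap_apply_def, *, Ne.symm]
  by_cases h2 : x = b
  · subst h2; simp [swap_apply_def, *, Ne.symm]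
  by_cases h3 : x = c
  · subst h3; simp [swap_apply_def, *, Ne.symm]
  by_cases h4 : x = d
  · subst h4; simp [swap_apply_def, *, Ne.symm]
  simp [swap_apply_of_ne_of_ne, *]

/-- The lift of a double transposition commutes with a lift fixing its four points. -/
theorem commute_of_fix {a b c d : Fin n} (hab : a ≠ b) (hcd : c ≠ d) (hac : a ≠ c) (had : a ≠ d)
    (hbc : b ≠ c) (hbd : b ≠ d) {u x : H} (hu : img f u = swap a b * swap c d)
    (ha : img f x a = a) (hb : img f x b = b) (hc : img f x c = c) (hd : img f x d = d) : Commute u x := by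
  obtain ⟨X, hX⟩ := exists_lift hf (a := swap a b * swap b c)
    (by rw [map_mul, sign_swap hab, sign_swap hbc]; decide)
  obtain ⟨Y, hY⟩ := exists_lift hf (a := swap a b * swap b d)
    (by rw [map_mul, sign_swap hab, sign_swap hbd]; decide)
  obtain ⟨e₁, h1, c1, -⟩ := conj_eq_central hf (x := X) (y := x)
    (by rw [hX]; exact commute_swaps_fixed hf ha hb hb hc)
  obtain ⟨e₂, h2, c2, -⟩ := conj_eq_central hf (x := Y) (y := x)
    (by rw [hY]; exact commute_swaps_fixed hf ha hb hb hd)
  have h12 : X * Y * x * (X * Y)⁻¹ = Y * X * x * (Y * X)⁻¹ := by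
    rw [show X * Y * x * (X * Y)⁻¹ = X * (Y * x * Y⁻¹) * X⁻¹ by group, h2,
      show Y * X * x * (Y * X)⁻¹ = Y * (X * x * X⁻¹) * Y⁻¹ by group, h1,
      ← mul_assoc X, c2 X, mul_assoc e₂ X x, mul_assoc e₂ (X * x), h1,
      ← mul_assoc Y, c1 Y, mul_assoc e₁ Y x, mul_assoc e₁ (Y * x), h2, ← mul_assoc, c1 e₂, mul_assoc]
  have hcom : Commute ((Y * X)⁻¹ * (X * Y)) x := by
    refine mul_inv_eq_iff_eq_mul.1 ?_
    rw [show (Y * X)⁻¹ * (X * Y) * x * ((Y * X)⁻¹ * (X * Y))⁻¹
      = (Y * X)⁻¹ * (X * Y * x * (X * Y)⁻¹) * (Y * X) by group, h12]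
    group
  have himg : img f u = img f ((Y * X)⁻¹ * (X * Y)) := by
    rw [map_mul, map_inv, map_mul, map_mul, hX, hY, hu, klein_commutator hab hcd hac had hbc hbd]
  rcases eq_or_img hf himg with e | e <;> rw [e]
  · exact hcom
  · exact (Commute.symm (hf.central x)).mul_left hcom

/-- The lift of a double transposition commutes with a lift interchanging both its pairs. -/
theorem commute_of_swaps {a b c d : Fin n} (hab : a ≠ b) (hcd : c ≠ d) (hac : a ≠ c) (had : a ≠ d)
    (hbc : b ≠ c) (hbd : b ≠ d) {u x : H} (hu : img f u = swap a b * swap c d)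
    (ha : img f x a = b) (hb : img f x b = a) (hc : img f x c = d) (hd : img f x d = c) : Commute u x := by
  have h := commute_of_fix hf hab hcd hac had hbc hbd (x := u * x) hu ?_ ?_ ?_ ?_
  · have : u * (u * x) = u * (x * u) := by rw [h.eq, mul_assoc]
    exact mul_left_cancel this
  all_goals rw [map_mul, hu, Perm.mul_apply, Perm.mul_apply]
  · rw [ha, swap_apply_of_ne_of_ne hbc hbd, swap_apply_right]
  · rw [hb, swap_apply_of_ne_of_ne hac had, swap_apply_left]
  · rw [hc, swap_apply_right, swap_apply_of_ne_of_ne hac.symm hbc.symm]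
  · rw [hd, swap_apply_left, swap_apply_of_ne_of_ne had.symm hbd.symm]

end Lifts

/-- Invariance under the centraliser of `s`. -/
def Inv (s : H) (N : Subgroup H) : Prop := ∀ k, Commute k s → ∀ y ∈ N, k * y * k⁻¹ ∈ N

/-- The image of an involution other than the central one. -/
structure Invol (f : H →* alternatingGroup (Fin n)) (s : H) : Prop where
  sq : ∀ p, img f s (img f s p) = p
  ne : img f s ≠ 1

theorem commutator_mem {s : H} {N : Subgroup H} (hN : Inv s N) {a k : H} (ha : a ∈ N) (hk : Commute k s) :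
    a * k * a⁻¹ * k⁻¹ ∈ N := by
  have h := N.mul_mem ha (hN k hk a⁻¹ (N.inv_mem ha))
  rwa [show a * (k * a⁻¹ * k⁻¹) = a * k * a⁻¹ * k⁻¹ by group] at h

variable {s : H} (hs : Invol f s)
include hs

theorem Invol.apply_eq {a : Perm (Fin n)} (h : Commute a (img f s)) (p : Fin n) :
    a (img f s p) = img f s (a p) := Perm.ext_iff.1 h.eq p

theorem Invol.exists_moved : ∃ p, img f s p ≠ p := by
  by_contra h
  push Not at h
  exact hs.ne (Equiv.ext h)

theorem Invol.exists_moved_two : ∃ p q, img f s p ≠ p ∧ img f s q ≠ q ∧ q ≠ p ∧ q ≠ img f s p := by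
  obtain ⟨p, hp⟩ := hs.exists_moved
  by_contra h
  push Not at h
  have hsw : img f s = swap p (img f s p) := by
    refine Equiv.ext fun q => ?_
    by_cases h1 : q = p
    · rw [h1, swap_apply_left]
    by_cases h2 : q = img f s p
    · rw [h2, hs.sq, swap_apply_right]
    rw [swap_apply_of_ne_of_ne h1 h2]
    by_contra hq
    exact h2 (h p q hp hq h1)
  have h1 : sign (img f s) = 1 := mem_alternatingGroup.1 (f s).2
  rw [hsw, sign_swap (Ne.symm hp)] at h1
  exact absurd h1 (by decide)

/-- The block kernel of the centraliser of `s`. -/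
def blockKer (s : H) (f : H →* alternatingGroup (Fin n)) (hs : Invol f s) : Subgroup H where
  carrier := {x | Commute x s ∧ ∀ p, img f x p = p ∨ img f x p = img f s p}
  one_mem' := ⟨Commute.one_left s, fun p => .inl (by rw [map_one]; rfl)⟩
  mul_mem' := by
    rintro x y ⟨hx, hx'⟩ ⟨hy, hy'⟩
    refine ⟨hx.mul_left hy, fun p => ?_⟩
    rw [map_mul, Perm.mul_apply]
    rcases hy' p with h | h <;> rw [h]
    · exact hx' p
    · rcases hx' (img f s p) with h' | h'
      · exact .inr h'
      · exact .inl (h'.trans (hs.sq p))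
  inv_mem' := by
    rintro x ⟨hx, hx'⟩
    refine ⟨hx.inv_left, fun p => ?_⟩
    rw [map_inv]
    rcases hx' p with h | h
    · exact .inl (Perm.inv_eq_iff_eq.2 h.symm)
    · refine .inr (Perm.inv_eq_iff_eq.2 ?_)
      rw [Invol.apply_eq hs (hx.map (img f)), h, hs.sq]

variable (hf : Cover f z) (hn : 5 ≤ n)
include hf hn

/-- The central element is the square of an element of a normal two-subgroup. -/
theorem exists_root : ∃ x, Commute x s ∧ x * x = z ∧
    ∃ N : Subgroup H, x ∈ N ∧ Inv s N ∧ ∀ y ∈ N, y ^ 4 = 1 := by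
  obtain ⟨p, q, hp, hq, hqp, hqp'⟩ := hs.exists_moved_two
  have hpq' : p ≠ img f s q := fun h => hqp' (by rw [h, hs.sq])
  have hpq'' : img f s p ≠ img f s q := fun h => hqp ((img f s).injective h.symm)
  obtain ⟨x, hx⟩ := exists_lift hf (a := swap p (img f s p) * swap q (img f s q))
    (by rw [map_mul, sign_swap (Ne.symm hp), sign_swap (Ne.symm hq)]; decide)
  have hxs : Commute x s := commute_of_swaps hf (Ne.symm hp) (Ne.symm hq) (Ne.symm hqp) hpq' (Ne.symm hqp') hpq'' hx
    rfl (hs.sq p) rfl (hs.sq q)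
  refine ⟨x, hxs, hf.dt_sq hn ?_, blockKer s f hs, ⟨hxs, fun r => ?_⟩, ?_, ?_⟩
  · show (img f x).cycleType = _
    rw [hx]
    exact AltCover.type22 _ _ _ _ ⟨Ne.symm hp, Ne.symm hq, Ne.symm hqp, hpq', Ne.symm hqp', hpq''⟩
  · rw [hx, Perm.mul_apply]
    by_cases h1 : r = q
    · rw [h1, swap_apply_left, swap_apply_of_ne_of_ne (Ne.symm hpq') (Ne.symm hpq'')]; exact .inr rfl
    by_cases h2 : r = img f s q
    · rw [h2, swap_apply_right, swap_apply_of_ne_of_ne hqp hqp', hs.sq]; exact .inr rfl
    rw [swap_apply_of_ne_of_ne h1 h2]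
    by_cases h3 : r = p
    · rw [h3, swap_apply_left]; exact .inr rfl
    by_cases h4 : r = img f s p
    · rw [h4, swap_apply_right, hs.sq]; exact .inr rfl
    exact .inl (swap_apply_of_ne_of_ne h3 h4)
  · rintro k hk y ⟨hy, hy'⟩
    refine ⟨(hk.mul_left hy).mul_left hk.inv_left, fun r => ?_⟩
    rw [map_mul, map_mul, map_inv, Perm.mul_apply, Perm.mul_apply]
    rcases hy' ((img f k)⁻¹ r) with h | h
    · left; rw [h]; exact (img f k).apply_symm_apply r
    · right
      rw [h, Invol.apply_eq hs (hk.map (img f))]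
      exact congrArg (img f s) ((img f k).apply_symm_apply r)
  · rintro y ⟨hy, hy'⟩
    have h2 : img f (y * y) = 1 := by
      refine Equiv.ext fun r => ?_
      rw [map_mul, Perm.mul_apply, Perm.one_apply]
      rcases hy' r with h | h
      · rw [h, h]
      · rw [h, Invol.apply_eq hs (hy.map (img f)), h, hs.sq]
    rcases (img_eq_one hf).1 h2 with h | h <;>
      rw [show y ^ 4 = y * y * (y * y) by rw [pow_succ, pow_succ, pow_two, mul_assoc], h]
    · exact one_mul 1
    · exact hf.sq_z

omit hn in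
/-- If `s` moves more than eight points, it is not such a square. -/
theorem no_root (h8 : 8 < (Finset.univ.filter fun p => img f s p ≠ p).card) {x : H}
    (hxs : Commute x s) (hx2 : x * x = s) {N : Subgroup H} (hxN : x ∈ N) (hN : Inv s N)
    (h2 : ∀ y ∈ N, ∃ m : ℕ, y ^ (2 ^ m) = 1) : False := by
  classical
  set σ := img f s with hσ
  set α := img f x with hα
  have hαα : ∀ p, α (α p) = σ p := fun p => by rw [hσ, ← hx2, map_mul, Perm.mul_apply]
  have hασ : ∀ p, α (σ p) = σ (α p) := fun p => by rw [← hαα p, ← hαα (α p)]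
  have hmov : ∀ p, σ p ≠ p → α p ≠ p ∧ α p ≠ σ p := by
    refine fun p hp => ⟨fun h => hp (by rw [← hαα, h, h]), fun h => ?_⟩
    have := hαα p
    rw [h, hασ, h, hs.sq] at this
    exact hp this.symm
  -- three points of different orbits of α
  set M := Finset.univ.filter fun p => σ p ≠ p with hM
  let O : Fin n → Finset (Fin n) := fun p => {p, σ p, α p, α (σ p)}
  have hO : ∀ p, (O p).card ≤ 4 := fun p => Finset.card_le_four
  obtain ⟨a, ha⟩ := Finset.card_pos.1 (show 0 < M.card by omega)
  obtain ⟨b, hb, hbO⟩ := Finset.exists_mem_notMem_of_card_lt_card (t := M) (s := O a)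
    (by have := hO a; omega)
  obtain ⟨c, hc, hcO⟩ := Finset.exists_mem_notMem_of_card_lt_card (t := M) (s := O a ∪ O b)
    (by have := Finset.card_union_le (O a) (O b); have := hO a; have := hO b; omega)
  simp only [hM, Finset.mem_filter, Finset.mem_univ, true_and] at ha hb hc
  rw [Finset.mem_union, not_or] at hcO
  obtain ⟨hca, hcb⟩ := hcO
  simp only [O, Finset.mem_insert, Finset.mem_singleton, not_or] at hbO hca hcb
  -- the simultaneous three-cycle
  obtain ⟨γ, hγ⟩ : ∃ g, g = swap a b * swap b c := ⟨_, rfl⟩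
  obtain ⟨η, hη⟩ : ∃ g, g = γ * (σ * γ * σ⁻¹) := ⟨_, rfl⟩
  have hσσ : σ * σ = 1 := Equiv.ext fun p => hs.sq p
  have hσi : σ⁻¹ = σ := inv_eq_of_mul_eq_one_right hσσ
  have hab : a ≠ b := Ne.symm hbO.1
  have hbc : b ≠ c := Ne.symm hcb.1
  have hac : a ≠ c := Ne.symm hca.1
  have hγfix : ∀ p, p ≠ a → p ≠ b → p ≠ c → γ p = p := fun p h1 h2 h3 => by
    rw [hγ, Perm.mul_apply, swap_apply_of_ne_of_ne h2 h3, swap_apply_of_ne_of_ne h1 h2]
  have hγ3 : γ ^ 3 = 1 := by
    have := (Perm.isThreeCycle_swap_mul_swap_same hab.symm hbc hac).orderOf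
    have h3 := pow_orderOf_eq_one (swap b a * swap b c)
    rw [this] at h3
    rw [hγ, swap_comm a b]; exact h3
  have hdis : Perm.Disjoint γ (σ * γ * σ⁻¹) := by
    intro p
    by_cases h : p = a ∨ p = b ∨ p = c
    · right
      rw [Perm.mul_apply, Perm.mul_apply, hσi, hγfix, hs.sq]
      all_goals
        intro e
        have e' := congrArg σ e
        rw [hs.sq] at e'
        rcases h with rfl | rfl | rfl
        all_goals first
          | exact ha e'.symm
          | exact hb e'.symm
          | exact hc e'.symm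
          | exact hbO.2.1 e'
          | exact hca.2.1 e'
          | exact hcb.2.1 e'
          | exact hbO.2.1 e.symm
          | exact hca.2.1 e.symm
          | exact hcb.2.1 e.symm
    · push Not at h
      exact .inl (hγfix p h.1 h.2.1 h.2.2)
  have hη3 : η ^ 3 = 1 := by
    rw [hη, hdis.commute.mul_pow, hγ3, conj_pow, hγ3, mul_one, one_mul, mul_inv_cancel]
  have hησ : Commute η σ := by
    show η * σ = σ * η
    rw [hη, hσi]
    calc γ * (σ * γ * σ) * σ = γ * (σ * γ * (σ * σ)) := by group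
      _ = γ * (σ * γ) := by rw [hσσ, mul_one]
      _ = γ * σ * γ := by group
      _ = σ * σ * (γ * σ * γ) := by rw [hσσ, one_mul]
      _ = σ * (σ * γ * σ * γ) := by group
      _ = σ * (γ * (σ * γ * σ)) := by
        have hcm := hdis.commute.eq
        rw [hσi] at hcm
        rw [← hcm]
  have hηfix : ∀ p, (∀ w, (w = a ∨ w = b ∨ w = c) → p ≠ w ∧ p ≠ σ w) → η p = p := fun p h => by
    have h' : γ (σ p) = σ p := hγfix _
      (fun e => (h a (.inl rfl)).2 (by rw [← e, hs.sq]))
      (fun e => (h b (.inr (.inl rfl))).2 (by rw [← e, hs.sq]))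
      (fun e => (h c (.inr (.inr rfl))).2 (by rw [← e, hs.sq]))
    rw [hη, Perm.mul_apply, Perm.mul_apply, Perm.mul_apply, hσi, h', hs.sq]
    exact hγfix p (h a (.inl rfl)).1 (h b (.inr (.inl rfl))).1 (h c (.inr (.inr rfl))).1
  obtain ⟨k, hk, hk3⟩ := exists_lift_cube hf hη3
  have hks : Commute k s := commute_of_img_cube hf hk3 (by rw [hk, ← hσ]; exact hησ)
  obtain ⟨m, hm⟩ := h2 _ (commutator_mem hN hxN hks)
  obtain ⟨β, hβ⟩ : ∃ g, g = α * η * α⁻¹ * η⁻¹ := ⟨_, rfl⟩
  have hβm : β ^ (2 ^ m) = 1 := by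
    have := congrArg (img f) hm
    rw [map_pow, map_one, map_mul, map_mul, map_mul, map_inv, map_inv, hk] at this
    rwa [hβ]
  -- the images of the three pairs avoid them
  have havoid : ∀ v, (v = a ∨ v = b ∨ v = c) → ∀ w, (w = a ∨ w = b ∨ w = c) →
      α v ≠ w ∧ α v ≠ σ w := by
    have good : ∀ v w, w ≠ α v → w ≠ α (σ v) → (α v ≠ w ∧ α v ≠ σ w) ∧ (α w ≠ v ∧ α w ≠ σ v) := by
      intro v w e1 e2
      have e3 : α v ≠ σ w := fun e => e2 (by rw [hασ, e, hs.sq])
      exact ⟨⟨Ne.symm e1, e3⟩, fun e => e3 (by rw [← e, hαα]),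
        fun e => e1 (σ.injective (by rw [← hαα w, e, hασ]))⟩
    have gab := good a b hbO.2.2.1 hbO.2.2.2
    have gac := good a c hca.2.2.1 hca.2.2.2
    have gbc := good b c hcb.2.2.1 hcb.2.2.2
    rintro v (rfl | rfl | rfl) w (rfl | rfl | rfl)
    exacts [hmov _ ha, gab.1, gac.1, gab.2, hmov _ hb, gbc.1, gac.2, gbc.2, hmov _ hc]
  have hdis2 : Perm.Disjoint (α * η * α⁻¹) η⁻¹ := by
    intro p
    by_cases h : η p = p
    · exact .inr (Perm.inv_eq_iff_eq.2 h.symm)
    · left
      rw [Perm.mul_apply, Perm.mul_apply]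
      by_cases h' : η (α⁻¹ p) = α⁻¹ p
      · rw [h']; exact α.apply_symm_apply p
      · exfalso
        obtain ⟨v, hv, hv'⟩ : ∃ v, (v = a ∨ v = b ∨ v = c) ∧ (α⁻¹ p = v ∨ α⁻¹ p = σ v) := by
          by_contra hh
          push Not at hh
          exact h' (hηfix _ hh)
        apply h
        have hp : p = α (α⁻¹ p) := (α.apply_symm_apply p).symm
        refine hηfix p fun w hw => ?_
        rcases hv' with e | e <;> rw [hp, e]
        · exact havoid v hv w hw
        · rw [hασ]
          exact ⟨fun e' => (havoid v hv w hw).2 (by rw [← e', hs.sq]),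
            fun e' => (havoid v hv w hw).1 (σ.injective e')⟩
  have hβ3 : β ^ 3 = 1 := by
    rw [hβ, hdis2.commute.mul_pow, conj_pow, hη3, inv_pow, hη3, mul_one, mul_inv_cancel, inv_one, one_mul]
  have hβ1 : β = 1 := by
    rw [← orderOf_eq_one_iff]
    exact Nat.eq_one_of_dvd_coprimes (Nat.Coprime.pow_left m (by norm_num : Nat.Coprime 2 3))
      (orderOf_dvd_of_pow_eq_one hβm) (orderOf_dvd_of_pow_eq_one hβ3)
  have hfa : η (α a) = α a := hηfix _ fun w hw => havoid a (.inl rfl) w hw
  have h1 : β (α a) = α (η a) := by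
    rw [hβ, Perm.mul_apply, Perm.inv_eq_iff_eq.2 hfa.symm, Perm.mul_apply, Perm.mul_apply]
    congr 2
    exact α.symm_apply_apply a
  rw [hβ1, Perm.one_apply] at h1
  have hηa : η a = γ a := by
    have h' : γ (σ a) = σ a := hγfix _ ha
      (fun e => hbO.2.1 e.symm) (fun e => hca.2.1 e.symm)
    rw [hη, Perm.mul_apply, Perm.mul_apply, Perm.mul_apply, hσi, h', hs.sq]
  rw [hηa, hγ, Perm.mul_apply, swap_apply_of_ne_of_ne hab hac, swap_apply_left] at h1
  exact hab (α.injective h1)

omit hn in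
/-- If `s` fixes four points, some normal subgroup with an element of order three misses it. -/
theorem exists_miss (h4 : 3 ≤ (Finset.univ.filter fun p => img f s p = p).card) :
    ∃ c, Commute c s ∧ c ^ 3 = 1 ∧ c ≠ 1 ∧ ∃ N : Subgroup H, c ∈ N ∧ Inv s N ∧ s ∉ N := by
  classical
  obtain ⟨a, b, c, ha, hb, hc, hab, hac, hbc⟩ := Finset.two_lt_card_iff.1 (show 2 < _ from h4)
  simp only [Finset.mem_filter, Finset.mem_univ, true_and] at ha hb hc
  obtain ⟨γ, hγ⟩ : ∃ g, g = swap a b * swap b c := ⟨_, rfl⟩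
  have hγ3 : γ ^ 3 = 1 := by
    have := (Perm.isThreeCycle_swap_mul_swap_same hab.symm hbc hac).orderOf
    have h3 := pow_orderOf_eq_one (swap b a * swap b c)
    rw [this] at h3
    rw [hγ, swap_comm a b]; exact h3
  obtain ⟨k, hk, hk3⟩ := exists_lift_cube hf hγ3
  have hks : Commute k s := commute_of_img_cube hf hk3 (by rw [hk, hγ]; exact commute_swaps_fixed hf ha hb hb hc)
  let N : Subgroup H :=
    { carrier := {x | Commute x s ∧ ∀ p, img f s p ≠ p → img f x p = p}
      one_mem' := ⟨Commute.one_left s, fun p _ => by rw [map_one]; rfl⟩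
      mul_mem' := fun {x y} hx hy => ⟨hx.1.mul_left hy.1, fun p hp => by
        rw [map_mul, Perm.mul_apply, hy.2 p hp, hx.2 p hp]⟩
      inv_mem' := fun {x} hx => ⟨hx.1.inv_left, fun p hp => by
        rw [map_inv]; exact Perm.inv_eq_iff_eq.2 (hx.2 p hp).symm⟩ }
  refine ⟨k, hks, hk3, fun h => ?_, N, ⟨hks, fun p hp => ?_⟩, ?_, ?_⟩
  · rw [h, map_one] at hk
    have := congrArg (fun e : Perm (Fin n) => e b) hk
    simp only [hγ, Perm.one_apply, Perm.mul_apply, swap_apply_left, swap_apply_of_ne_of_ne hac.symm hbc.symm] at this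
    exact hbc this
  · have na : p ≠ a := fun e => hp (by rw [e]; exact ha)
    have nb : p ≠ b := fun e => hp (by rw [e]; exact hb)
    have nc : p ≠ c := fun e => hp (by rw [e]; exact hc)
    rw [hk, hγ, Perm.mul_apply, swap_apply_of_ne_of_ne nb nc, swap_apply_of_ne_of_ne na nb]
  · rintro g hg y ⟨hy, hy'⟩
    refine ⟨(hg.mul_left hy).mul_left hg.inv_left, fun p hp => ?_⟩
    rw [map_mul, map_mul, map_inv, Perm.mul_apply, Perm.mul_apply]
    rw [hy' _ ?_]
    · exact (img f g).apply_symm_apply p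
    · intro e
      have := Invol.apply_eq hs (hg.map (img f)) ((img f g)⁻¹ p)
      rw [e, show img f g ((img f g)⁻¹ p) = p from (img f g).apply_symm_apply p] at this
      exact hp this.symm
  · intro h
    obtain ⟨p, hp⟩ := hs.exists_moved
    exact hp (h.2 p hp)

/-- If `s` fixes four points, the central element lies in each normal subgroup with an element of order three. -/
theorem forced (h4 : 4 ≤ (Finset.univ.filter fun p => img f s p = p).card) {c : H}
    (hcs : Commute c s) (hc3 : c ^ 3 = 1) (hc1 : c ≠ 1) {N : Subgroup H} (hcN : c ∈ N) (hN : Inv s N) :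
    z ∈ N := by
  classical
  set σ := img f s with hσ
  set γ := img f c with hγ
  have hγ3 : γ ^ 3 = 1 := by rw [hγ, ← map_pow, hc3, map_one]
  have hγne : γ ≠ 1 := fun h => by
    rcases (img_eq_one hf).1 h with e | e
    · exact hc1 e
    · rw [e, pow_succ, pow_two, hf.sq_z, one_mul] at hc3
      exact hf.zne hc3
  have hγ3' : ∀ p, γ (γ (γ p)) = p := fun p => by
    have := Perm.ext_iff.1 hγ3 p
    simpa [pow_succ, pow_zero, Perm.mul_apply] using this
  have hγσ : ∀ p, γ (σ p) = σ (γ p) := Invol.apply_eq hs (hcs.map (img f))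
  have hγ2 : ∀ p, γ p ≠ p → γ (γ p) ≠ p ∧ γ (γ p) ≠ γ p := fun p hp =>
    ⟨fun h => hp (by have := hγ3' p; rwa [h] at this), fun h => hp (γ.injective h)⟩
  -- it is enough to find a double transposition among the commutators
  suffices h : ∃ u : H, Commute u s ∧ ((f (c * u * c⁻¹ * u⁻¹) : alternatingGroup (Fin n)) :
      Perm (Fin n)).cycleType = AltCover.R 2 by
    obtain ⟨u, hu, ht⟩ := h
    have hm := commutator_mem hN hcN hu
    have := N.mul_mem hm hm
    rwa [hf.dt_sq hn ht] at this
  have hswap : ∀ p q, γ * swap p q * γ⁻¹ = swap (γ p) (γ q) := fun p q => (swap_apply_apply γ p q).symm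
  have hconj : ∀ p q p' q', γ * (swap p q * swap p' q') * γ⁻¹ = swap (γ p) (γ q) * swap (γ p') (γ q') :=
    fun p q p' q' => by rw [← hswap, ← hswap]; group
  have himg : ∀ {u : H} {p q p' q'}, img f u = swap p q * swap p' q' →
      ((f (c * u * c⁻¹ * u⁻¹) : alternatingGroup (Fin n)) : Perm (Fin n)) =
        swap (γ p) (γ q) * swap (γ p') (γ q') * (swap p' q' * swap p q) := by
    intro u p q p' q' hu
    show img f (c * u * c⁻¹ * u⁻¹) = _
    rw [map_mul, map_mul, map_mul, map_inv, map_inv, hu, ← hγ, hconj, mul_inv_rev, swap_inv, swap_inv]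
  by_cases hmoved : ∃ p, γ p ≠ p ∧ σ p ≠ p
  · obtain ⟨p, hp, hσp⟩ := hmoved
    obtain ⟨q, hq⟩ : ∃ q, q = γ p := ⟨_, rfl⟩
    obtain ⟨w, hw⟩ : ∃ w, w = γ q := ⟨_, rfl⟩
    have hwp : γ w = p := by rw [hw, hq]; exact hγ3' p
    obtain ⟨hwp', hwq⟩ := hγ2 p hp
    rw [← hq] at hp
    rw [← hq, ← hw] at hwp' hwq
    have hσq : σ q ≠ q := fun h => hσp (γ.injective (by rw [hγσ, ← hq, h]))
    have hσw : σ w ≠ w := fun h => hσq (γ.injective (by rw [hγσ, ← hw, h]))
    -- the three orbits of σ are different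
    have d1 : σ p ≠ q := fun h => hwp' (by rw [hw, ← h, hγσ, ← hq, ← h, hs.sq])
    have d2 : σ q ≠ w := fun h => by
      apply d1; apply γ.injective; rw [hγσ, ← hq, ← hw]; exact h
    have d3 : σ w ≠ p := fun h => by
      apply d2; apply γ.injective; rw [hγσ, ← hw, hwp]; exact h
    obtain ⟨u, hu⟩ := exists_lift hf (a := swap p (σ p) * swap q (σ q))
      (by rw [map_mul, sign_swap (Ne.symm hσp), sign_swap (Ne.symm hσq)]; decide)
    have d1' : σ q ≠ p := fun h => d1 (by rw [← h, hs.sq])
    have d2' : σ w ≠ q := fun h => d2 (by rw [← h, hs.sq])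
    have d3' : σ p ≠ w := fun h => d3 (by rw [← h, hs.sq])
    refine ⟨u, commute_of_swaps hf (Ne.symm hσp) (Ne.symm hσq) (Ne.symm hp) (Ne.symm d1') d1
      (fun h => hp (σ.injective h.symm)) hu rfl (hs.sq p) rfl (hs.sq q), ?_⟩
    rw [himg hu, ← hq, hγσ, ← hq, ← hw, hγσ, ← hw]
    have hcomm : swap q (σ q) * swap w (σ w) = swap w (σ w) * swap q (σ q) :=
      AltCover.swaps_comm _ _ _ _ (Ne.symm hwq) (Ne.symm d2') d2 (fun h => hwq (σ.injective h).symm)
    rw [hcomm, mul_assoc, ← mul_assoc (swap q (σ q)), swap_mul_self, one_mul]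
    exact AltCover.type22 _ _ _ _ ⟨Ne.symm hσw, Ne.symm hσp, hwp', Ne.symm d3', d3,
      fun h => hwp' (σ.injective h)⟩
  · push Not at hmoved
    obtain ⟨p, hp⟩ : ∃ p, γ p ≠ p := by
      by_contra h; push Not at h; exact hγne (Equiv.ext h)
    obtain ⟨q, hq⟩ : ∃ q, q = γ p := ⟨_, rfl⟩
    obtain ⟨w, hw⟩ : ∃ w, w = γ q := ⟨_, rfl⟩
    have hwp : γ w = p := by rw [hw, hq]; exact hγ3' p
    obtain ⟨hwp', hwq⟩ := hγ2 p hp
    rw [← hq] at hp
    rw [← hq, ← hw] at hwp' hwq
    have fp : σ p = p := hmoved p (by rwa [← hq])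
    have fq : σ q = q := hmoved q (by rwa [← hw])
    have fw : σ w = w := hmoved w (by rw [hwp]; exact Ne.symm hwp')
    obtain ⟨v, hv, hvn⟩ := Finset.exists_mem_notMem_of_card_lt_card
      (t := Finset.univ.filter fun p => σ p = p) (s := {p, q, w})
      (lt_of_le_of_lt Finset.card_le_three h4)
    simp only [Finset.mem_insert, Finset.mem_singleton, not_or] at hvn
    simp only [Finset.mem_filter, Finset.mem_univ, true_and] at hv
    obtain ⟨hvp, hvq, hvw⟩ := hvn
    by_cases hγv : γ v = v
    · obtain ⟨u, hu⟩ := exists_lift hf (a := swap p q * swap w v)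
        (by rw [map_mul, sign_swap (Ne.symm hp), sign_swap (Ne.symm hvw)]; decide)
      refine ⟨u, commute_of_fix hf (Ne.symm hp) (Ne.symm hvw) (Ne.symm hwp') (Ne.symm hvp) (Ne.symm hwq)
        (Ne.symm hvq) hu fp fq fw hv, ?_⟩
      rw [himg hu, ← hq, ← hw, hwp, hγv, swap_comm p v]
      have e1 : swap q w * swap v p * (swap w v * swap p q) = swap p w * swap q v := by
        have k := (AltCover.klein_mul p q v w (Ne.symm hp) hvw (Ne.symm hvp) (Ne.symm hwp') (Ne.symm hvq)
          (Ne.symm hwq)).2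
        rw [AltCover.swaps_comm q w v p (Ne.symm hvq) hp (Ne.symm hvw) hwp', swap_comm v p,
          AltCover.swaps_comm w v p q hwp' hwq hvp hvq, swap_comm w v]
        exact k
      rw [e1]
      exact AltCover.type22 _ _ _ _ ⟨Ne.symm hwp', Ne.symm hvq, Ne.symm hp, Ne.symm hvp, hwq, Ne.symm hvw⟩
    · obtain ⟨v', hv'⟩ : ∃ v', v' = γ v := ⟨_, rfl⟩
      obtain ⟨v'', hv''⟩ : ∃ v'', v'' = γ v' := ⟨_, rfl⟩
      obtain ⟨hvv, hvv'⟩ := hγ2 v hγv
      rw [← hv'] at hγv
      rw [← hv', ← hv''] at hvv hvv'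
      have fv' : σ v' = v' := hmoved v' (by rw [← hv'']; exact hvv')
      have g3 : γ v'' = v := by rw [hv'', hv']; exact hγ3' v
      have n1 : v' ≠ q := fun h => hvp (γ.injective (by rw [← hv', h, hq]))
      have n2 : v' ≠ w := fun h => hvq (γ.injective (by rw [← hv', h, hw]))
      have n3 : v' ≠ p := fun h => hvw (γ.injective (by rw [← hv', h, hwp]))
      have n4 : v'' ≠ w := fun h => n1 (γ.injective (by rw [← hv'', h, hw]))
      have n5 : v'' ≠ p := fun h => n2 (γ.injective (by rw [← hv'', h, hwp]))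
      have n6 : v'' ≠ q := fun h => n3 (γ.injective (by rw [← hv'', h, hq]))
      obtain ⟨u, hu⟩ := exists_lift hf (a := swap p v * swap q v')
        (by rw [map_mul, sign_swap (Ne.symm hvp), sign_swap (Ne.symm n1)]; decide)
      refine ⟨u, commute_of_fix hf (Ne.symm hvp) (Ne.symm n1) (Ne.symm hp) (Ne.symm n3) hvq (Ne.symm hγv)
        hu fp hv fq fv', ?_⟩
      rw [himg hu, ← hq, ← hv', ← hw, ← hv'']
      have hcomm : swap q v' * swap w v'' = swap w v'' * swap q v' :=
        AltCover.swaps_comm _ _ _ _ (Ne.symm hwq) (Ne.symm n6) n2 (Ne.symm hvv')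
      rw [hcomm, mul_assoc, ← mul_assoc (swap q v'), swap_mul_self, one_mul]
      exact AltCover.type22 _ _ _ _ ⟨Ne.symm n4, Ne.symm hvp, hwp', Ne.symm hvw, n5, hvv⟩

end CfsgLib.CoverType
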