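import Cfsg.Agent.Lib.CoverType.Basic
import Cfsg.Agent.Lib.Invol.ZStarFinal
import Cfsg.Agent.Lib.SporMisc.DoubleCoverAlt.Split

/-!
# Fusion of the central involution, and degrees at most seven

The central involution is conjugate to another element of its centraliser (Z*-theorem). In degree at most seven
it is the only involution there.
-/

set_option autoImplicit false

namespace CfsgLib.CoverType

open Equiv Equiv.Perm

variable {G : Type*} [Group G] [Finite G] [IsSimpleGroup G] {n : ℕ} {t : G}
  {π : Subgroup.centralizer ({t} : Set G) →* alternatingGroup (Fin n)}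

/-- Some conjugate of `t` other than `t` commutes with it. -/
theorem exists_fused (ht : orderOf t = 2) (hn : 5 ≤ n) (hπ : AltCover.Cover π (tC t)) :
    ∃ g : G, Commute t (g * t * g⁻¹) ∧ g * t * g⁻¹ ≠ t := by
  by_contra hno
  push Not at hno
  have hO : Cfsg.oddCore G = ⊥ := by
    rcases IsSimpleGroup.eq_bot_or_eq_top_of_normal (Cfsg.oddCore G) inferInstance with h | h
    · exact h
    · exfalso
      have h1 : Odd (Nat.card (Cfsg.oddCore G)) := CfsgLib.Cores.odd_card_oddCore
      rw [h, Subgroup.card_top] at h1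
      have h2 : orderOf t ∣ Nat.card G := orderOf_dvd_natCard t
      rw [ht] at h2
      exact (Nat.not_even_iff_odd.2 h1) (even_iff_two_dvd.2 h2)
  have hc := Invol.zstar_center (z := t) ⟨ht, fun g hg => hno g hg⟩ hO
  -- the centraliser is the whole group, which then has a simple image with nontrivial kernel
  have hC : ∀ x : G, x ∈ Subgroup.centralizer ({t} : Set G) := fun x =>
    Subgroup.mem_centralizer_singleton_iff.2 (Subgroup.mem_center_iff.1 hc x)
  let f : G →* alternatingGroup (Fin n) := π.comp (MonoidHom.id G |>.codRestrict _ hC)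
  have hft : f t = 1 := hπ.map_z
  have ht1 : t ≠ 1 := fun h => by rw [h, orderOf_one] at ht; omega
  rcases IsSimpleGroup.eq_bot_or_eq_top_of_normal f.ker inferInstance with h | h
  · exact ht1 ((MonoidHom.ker_eq_bot_iff f).1 h (by rw [hft, map_one]))
  · have : Nontrivial (alternatingGroup (Fin n)) :=
      alternatingGroup.nontrivial_of_three_le_card (by rw [Nat.card_fin]; omega)
    obtain ⟨a, ha⟩ := exists_ne (1 : alternatingGroup (Fin n))
    obtain ⟨x, rfl⟩ := hπ.surj a
    have hx : f (x : G) = 1 := MonoidHom.mem_ker.1 (h ▸ Subgroup.mem_top _)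
    exact ha hx

omit [Finite G] [IsSimpleGroup G] in
/-- The image of a conjugate of `t` in the centraliser, other than `t`, has order two. -/
theorem fused_image (ht : orderOf t = 2) (hπ : AltCover.Cover π (tC t)) {g : G}
    (hc : Commute t (g * t * g⁻¹)) (hne : g * t * g⁻¹ ≠ t) :
    orderOf (π ⟨g * t * g⁻¹, Subgroup.mem_centralizer_singleton_iff.2 hc.eq.symm⟩) = 2 := by
  set s : Subgroup.centralizer ({t} : Set G) :=
    ⟨g * t * g⁻¹, Subgroup.mem_centralizer_singleton_iff.2 hc.eq.symm⟩
  have hs2 : orderOf s = 2 := by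
    rw [← Subgroup.orderOf_coe]
    exact (Invol.orderOf_conj_eq g t).trans ht
  refine orderOf_eq_prime (by rw [← map_pow, ← hs2, pow_orderOf_eq_one, map_one]) fun h => ?_
  rcases (hπ.ker s).1 h with h1 | h1
  · rw [h1, orderOf_one] at hs2; omega
  · exact hne (congrArg Subtype.val h1)

/-- Degrees at most seven do not occur. -/
theorem not_small (hn : 5 ≤ n) (ht : orderOf t = 2)
    (hcov : Cfsg.IsNonsplitDoubleCover (Subgroup.centralizer ({t} : Set G)) (alternatingGroup (Fin n)))
    (h7 : n ≤ 7) : False := by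
  obtain ⟨π, hπ⟩ := exists_cover hn ht hcov
  obtain ⟨g, hc, hne⟩ := exists_fused ht hn hπ
  set s : Subgroup.centralizer ({t} : Set G) :=
    ⟨g * t * g⁻¹, Subgroup.mem_centralizer_singleton_iff.2 hc.eq.symm⟩ with hs
  have h2 := fused_image ht hπ hc hne
  rw [← Subgroup.orderOf_coe] at h2
  have h := hπ.dt_sq hn (x := s)
    (SporMisc.DoubleCoverAlt.cycleType_of_involution h7 h2 (π s).2)
  have hs2 : s * s = 1 := by
    refine Subtype.ext ?_
    show g * t * g⁻¹ * (g * t * g⁻¹) = 1
    have htt : t * t = 1 := by rw [← sq, ← ht, pow_orderOf_eq_one]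
    rw [show g * t * g⁻¹ * (g * t * g⁻¹) = g * (t * t) * g⁻¹ by group, htt, mul_one, mul_inv_cancel]
  exact hπ.zne (h.symm.trans hs2)

end CfsgLib.CoverType
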