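import Cfsg.Agent.Lib.CoverType.Invariants
import Cfsg.Agent.Lib.CoverType.Small

/-!
# Degrees at least twelve

If `g` conjugates the central involution `t` to `s` in its centraliser, then `t` and `s' = g⁻¹ t g` have the same
position in the centraliser of both as `s` and `t` have. The invariants of `Invariants` contradict this.
-/

set_option autoImplicit false

namespace CfsgLib.CoverType

open Equiv Equiv.Perm

variable {G : Type*} [Group G] {n : ℕ} {t : G}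
  {π : Subgroup.centralizer ({t} : Set G) →* alternatingGroup (Fin n)}

/-- An element commuting with `t`, inside the centraliser. -/
def inC {x : G} (h : Commute x t) : Subgroup.centralizer ({t} : Set G) :=
  ⟨x, Subgroup.mem_centralizer_singleton_iff.2 h.eq⟩

theorem commute_val (x : Subgroup.centralizer ({t} : Set G)) : Commute (x : G) t :=
  Subgroup.mem_centralizer_singleton_iff.1 x.2

/-- Invariance under the centraliser of two elements. -/
def Inv2 (a b : G) (N : Subgroup G) : Prop := ∀ k, Commute k a → Commute k b → ∀ y ∈ N, k * y * k⁻¹ ∈ N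

theorem inv2_map {s : Subgroup.centralizer ({t} : Set G)} {N : Subgroup (Subgroup.centralizer ({t} : Set G))}
    (h : Inv s N) : Inv2 t (s : G) (N.map (Subgroup.centralizer ({t} : Set G)).subtype) := by
  rintro k hk hks y ⟨y, hy, rfl⟩
  exact ⟨_, h (inC hk) (Subtype.ext hks.eq) y hy, rfl⟩

theorem inv_comap {s : Subgroup.centralizer ({t} : Set G)} {N : Subgroup G} (h : Inv2 t (s : G) N) :
    Inv s (N.comap (Subgroup.centralizer ({t} : Set G)).subtype) :=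
  fun k hk y hy => h k (commute_val k) (congrArg Subtype.val hk.eq) y hy

/-- Conjugation turns invariance for one pair into invariance for the other. -/
theorem inv2_conj {a b : G} {N : Subgroup G} (h : Inv2 a b N) (c : G) {a' b' : G} (ha : c * a * c⁻¹ = b')
    (hb : c * b * c⁻¹ = a') : Inv2 a' b' (N.map (MulAut.conj c).toMonoidHom) := by
  rintro k hka hkb y ⟨y, hy, rfl⟩
  refine ⟨_, h (c⁻¹ * k * c) ?_ ?_ y hy, ?_⟩
  · subst ha
    show c⁻¹ * k * c * a = a * (c⁻¹ * k * c)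
    calc c⁻¹ * k * c * a = c⁻¹ * (k * (c * a * c⁻¹)) * c := by group
      _ = a * (c⁻¹ * k * c) := by rw [hkb.eq]; group
  · subst hb
    show c⁻¹ * k * c * b = b * (c⁻¹ * k * c)
    calc c⁻¹ * k * c * b = c⁻¹ * (k * (c * b * c⁻¹)) * c := by group
      _ = b * (c⁻¹ * k * c) := by rw [hka.eq]; group
  · show c * (c⁻¹ * k * c * y * (c⁻¹ * k * c)⁻¹) * c⁻¹ = k * (c * y * c⁻¹) * k⁻¹
    group

theorem invol_image (ht : orderOf t = 2) (hπ : AltCover.Cover π (tC t)) {g : G}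
    (hc : Commute t (g * t * g⁻¹)) (hne : g * t * g⁻¹ ≠ t) : Invol π (inC hc.symm) := by
  have h := fused_image ht hπ hc hne
  refine ⟨fun p => ?_, fun e => ?_⟩
  · have h2 : img π (inC hc.symm) * img π (inC hc.symm) = 1 := by
      rw [← sq, ← map_pow]
      show ((π ((inC hc.symm) ^ 2) : alternatingGroup (Fin n)) : Perm (Fin n)) = 1
      rw [map_pow, show π (inC hc.symm) ^ 2 = 1 by rw [← h]; exact pow_orderOf_eq_one _]
      rfl
    exact Perm.ext_iff.1 h2 p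
  · have e' : π (inC hc.symm) = 1 := Subtype.ext e
    have h' : orderOf (π (inC hc.symm)) = 2 := h
    rw [e', orderOf_one] at h'
    omega

/-- A fused involution moves at most eight points. -/
theorem moved_le (ht : orderOf t = 2) (hn : 5 ≤ n) (hπ : AltCover.Cover π (tC t)) {g : G}
    (hc : Commute t (g * t * g⁻¹)) (hne : g * t * g⁻¹ ≠ t) (hc' : Commute t (g⁻¹ * t * g⁻¹⁻¹))
    (hne' : g⁻¹ * t * g⁻¹⁻¹ ≠ t) :
    (Finset.univ.filter fun p => img π (inC hc'.symm) p ≠ p).card ≤ 8 := by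
  by_contra h8
  obtain ⟨x, hxs, hx2, N, hxN, hN, h4⟩ := exists_root (invol_image ht hπ hc hne) hπ hn
  have hN' := inv2_conj (inv2_map hN) g⁻¹ (a' := t) (b' := g⁻¹ * t * g⁻¹⁻¹) rfl (by
    show g⁻¹ * (g * t * g⁻¹) * g⁻¹⁻¹ = t
    group)
  set s' := inC hc'.symm
  have hxt' : Commute (g⁻¹ * (x : G) * g⁻¹⁻¹) t := by
    have h1 : (x : G) * (g * t * g⁻¹) = g * t * g⁻¹ * (x : G) := congrArg Subtype.val hxs.eq
    show g⁻¹ * (x : G) * g⁻¹⁻¹ * t = t * (g⁻¹ * (x : G) * g⁻¹⁻¹)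
    calc g⁻¹ * (x : G) * g⁻¹⁻¹ * t = g⁻¹ * ((x : G) * (g * t * g⁻¹)) * g := by group
      _ = t * (g⁻¹ * (x : G) * g⁻¹⁻¹) := by rw [h1]; group
  refine no_root (invol_image ht hπ hc' hne') hπ (x := inC hxt') (not_le.1 h8) ?_ ?_
    (N := _) ?_ (inv_comap hN') ?_
  · refine Subtype.ext ?_
    show g⁻¹ * (x : G) * g⁻¹⁻¹ * (g⁻¹ * t * g⁻¹⁻¹) = g⁻¹ * t * g⁻¹⁻¹ * (g⁻¹ * (x : G) * g⁻¹⁻¹)
    rw [show g⁻¹ * (x : G) * g⁻¹⁻¹ * (g⁻¹ * t * g⁻¹⁻¹) = g⁻¹ * ((x : G) * t) * g⁻¹⁻¹ by group,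
      (commute_val x).eq]
    group
  · refine Subtype.ext ?_
    show g⁻¹ * (x : G) * g⁻¹⁻¹ * (g⁻¹ * (x : G) * g⁻¹⁻¹) = g⁻¹ * t * g⁻¹⁻¹
    have h1 : (x : G) * (x : G) = t := congrArg Subtype.val hx2
    conv_rhs => rw [show g⁻¹ * t * g⁻¹⁻¹ = g⁻¹ * ((x : G) * (x : G)) * g⁻¹⁻¹ from congrArg (fun y => g⁻¹ * y * g⁻¹⁻¹) h1.symm]
    group
  · exact ⟨_, ⟨x, hxN, rfl⟩, rfl⟩
  · intro y hy
    obtain ⟨-, ⟨w, hw, rfl⟩, hyw⟩ := hy
    refine ⟨2, Subtype.ext ?_⟩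
    show (y : G) ^ 4 = 1
    rw [← show g⁻¹ * (w : G) * g⁻¹⁻¹ = (y : G) from hyw, conj_pow]
    rw [show (w : G) ^ 4 = 1 from congrArg Subtype.val (h4 w hw), mul_one, mul_inv_cancel]

variable [Finite G] [IsSimpleGroup G]

/-- Degrees at least twelve do not occur. -/
theorem not_large (hn : 5 ≤ n) (ht : orderOf t = 2)
    (hcov : Cfsg.IsNonsplitDoubleCover (Subgroup.centralizer ({t} : Set G)) (alternatingGroup (Fin n)))
    (h12 : 12 ≤ n) : False := by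
  obtain ⟨π, hπ⟩ := exists_cover hn ht hcov
  obtain ⟨g, hc, hne⟩ := exists_fused ht hn hπ
  have htt : t * t = 1 := by rw [← sq, ← ht, pow_orderOf_eq_one]
  have hc' : Commute t (g⁻¹ * t * g⁻¹⁻¹) := by
    show t * (g⁻¹ * t * g⁻¹⁻¹) = g⁻¹ * t * g⁻¹⁻¹ * t
    calc t * (g⁻¹ * t * g⁻¹⁻¹) = g⁻¹ * ((g * t * g⁻¹) * t) * g := by group
      _ = g⁻¹ * t * g⁻¹⁻¹ * t := by rw [← hc.eq]; group
  have hne' : g⁻¹ * t * g⁻¹⁻¹ ≠ t := fun h => hne (by
    conv_lhs => rw [← h]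
    group)
  set σ' := img π (inC hc'.symm)
  set σ := img π (inC hc.symm)
  have h1 := moved_le ht hn hπ hc hne hc' hne'
  have h2 : (Finset.univ.filter fun p => σ p ≠ p).card ≤ 8 := by
    have e : g⁻¹⁻¹ * t * g⁻¹⁻¹⁻¹ = g * t * g⁻¹ := by rw [inv_inv]
    have hc'' : Commute t (g⁻¹⁻¹ * t * g⁻¹⁻¹⁻¹) := by rw [e]; exact hc
    have h := moved_le ht hn hπ hc' hne' hc'' (by rw [e]; exact hne)
    rwa [show inC hc''.symm = inC hc.symm from Subtype.ext e] at h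
  have hfix : ∀ a : Perm (Fin n), (Finset.univ.filter fun p => a p ≠ p).card ≤ 8 →
      4 ≤ (Finset.univ.filter fun p => a p = p).card := by
    intro a ha
    simp only [ne_eq] at ha
    have := Finset.card_filter_add_card_filter_not (s := (Finset.univ : Finset (Fin n)))
      (p := fun p => a p = p)
    rw [Finset.card_univ, Fintype.card_fin] at this
    omega
  obtain ⟨c, hcs, hc3, hc1, N, hcN, hN, hsN⟩ :=
    exists_miss (invol_image ht hπ hc hne) hπ (le_trans (by norm_num) (hfix σ h2))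
  have hN' := inv2_conj (inv2_map hN) g⁻¹ (a' := t) (b' := g⁻¹ * t * g⁻¹⁻¹) rfl (by
    show g⁻¹ * (g * t * g⁻¹) * g⁻¹⁻¹ = t
    group)
  have hct : Commute (g⁻¹ * (c : G) * g⁻¹⁻¹) t := by
    have h3 : (c : G) * (g * t * g⁻¹) = g * t * g⁻¹ * (c : G) := congrArg Subtype.val hcs.eq
    show g⁻¹ * (c : G) * g⁻¹⁻¹ * t = t * (g⁻¹ * (c : G) * g⁻¹⁻¹)
    calc g⁻¹ * (c : G) * g⁻¹⁻¹ * t = g⁻¹ * ((c : G) * (g * t * g⁻¹)) * g := by group
      _ = t * (g⁻¹ * (c : G) * g⁻¹⁻¹) := by rw [h3]; group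
  have hz := forced (invol_image ht hπ hc' hne') hπ hn (hfix σ' h1) (c := inC hct) (N := _) ?_ ?_ ?_ ?_
    (inv_comap hN')
  · obtain ⟨-, ⟨w, hw, rfl⟩, hyw⟩ := hz
    apply hsN
    have e : w = inC hc.symm := by
      refine Subtype.ext ?_
      have h4 : g⁻¹ * (w : G) * g⁻¹⁻¹ = t := hyw
      show (w : G) = g * t * g⁻¹
      calc (w : G) = g * (g⁻¹ * (w : G) * g⁻¹⁻¹) * g⁻¹ := by group
        _ = g * t * g⁻¹ := congrArg (fun y => g * y * g⁻¹) h4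
    exact e ▸ hw
  · refine Subtype.ext ?_
    show g⁻¹ * (c : G) * g⁻¹⁻¹ * (g⁻¹ * t * g⁻¹⁻¹) = g⁻¹ * t * g⁻¹⁻¹ * (g⁻¹ * (c : G) * g⁻¹⁻¹)
    rw [show g⁻¹ * (c : G) * g⁻¹⁻¹ * (g⁻¹ * t * g⁻¹⁻¹) = g⁻¹ * ((c : G) * t) * g⁻¹⁻¹ by group,
      (commute_val c).eq]
    group
  · refine Subtype.ext ?_
    show (g⁻¹ * (c : G) * g⁻¹⁻¹) ^ 3 = 1
    rw [conj_pow, show (c : G) ^ 3 = 1 from congrArg Subtype.val hc3, mul_one, mul_inv_cancel]
  · intro h
    apply hc1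
    refine Subtype.ext ?_
    have h5 : g⁻¹ * (c : G) * g⁻¹⁻¹ = 1 := congrArg Subtype.val h
    show (c : G) = 1
    exact conj_eq_one_iff.1 h5
  · exact ⟨_, ⟨c, hcN, rfl⟩, rfl⟩

end CfsgLib.CoverType
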