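import Cfsg.Agent.Lib.McLRec.Graph
import Cfsg.Agent.Lib.McLRec.Model
import Cfsg.Agent.Lib.CoverType.NineData

/-!
# Eighty-one inverted elements, each commuting with an involution, in the model of the McLaughlin group
-/

set_option autoImplicit false
set_option maxRecDepth 100000

namespace CfsgLib.CoverType

open CfsgLib.LeechPSU CfsgLib.McLRec

/-- All the codes of the program. -/
def nineCodes : List ℕ := nineOps.map fun o => o.2.2

/-- The code at a position. -/
noncomputable def nineCode (k : ℕ) : ℕ := fastGet nineCodes 0 k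

/-- The products of two codes agree at every point. -/
noncomputable def nCommB (c d : ℕ) : Bool :=
  (List.range 275).all fun a => Nat.beq (fieldAt c (fieldAt d a)) (fieldAt d (fieldAt c a))

/-- A power of a code is trivial. -/
noncomputable def nPowB (c m : ℕ) : Bool :=
  (List.range 275).all fun a => Nat.beq ((List.range m).foldl (fun x _ => fieldAt c x) a) a

/-- A code moves a point. -/
noncomputable def nMovB (c : ℕ) : Bool := (List.range 275).any fun a => !Nat.beq (fieldAt c a) a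

/-- The images of the chosen points, packed. -/
noncomputable def nKey (f : ℕ → ℕ) : ℕ := ninePts.foldl (fun s p => s * 1024 + f p) 0

/-- The keys of the eighty-one elements. -/
noncomputable def nKeys : List ℕ :=
  nKey id :: (ninePairs.flatMap fun p =>
    [nKey (fun a => fieldAt (nineCode p.1) a), nKey (fun a => fieldAt (nineCode p.1) (fieldAt (nineCode p.1) a))])

/-- The conditions. -/
noncomputable def nineB : Bool :=
  slpOk 275 nineOps knownM &&
  (let T := nineCode (nineHead.getD 0 0); let X := nineCode (nineHead.getD 1 0); let F := nineCode (nineHead.getD 2 0)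
   nPowB T 2 && nPowB X 3 && nPowB F 5 && nMovB T && nMovB X && nMovB F &&
    nCommB T X && nCommB T F && nCommB X F &&
    ninePairs.all fun p => let w := nineCode p.1; let r := nineCode p.2
      Nat.blt p.1 nineOps.length && Nat.blt p.2 nineOps.length && nPowB w 3 && nCommB w X &&
        ((List.range 275).all fun a =>
          Nat.beq (fieldAt T (fieldAt w (fieldAt T a))) (fieldAt w (fieldAt w a))) &&
        nPowB r 2 && nMovB r && nCommB r w)

theorem nineB_ok : nineB = true := by decide +kernel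

theorem nineHead_lt : ∀ k < 3, nineHead.getD k 0 < nineOps.length := by decide +kernel

theorem nKeys_nodup : nKeys.Nodup ∧ nKeys.length = 81 := by decide +kernel

theorem isCode_pow {c : ℕ} {σ : ↥Mgrp} (h : IsCode c (σ : Equiv.Perm (Fin 275))) : ∀ (m : ℕ) (a : Fin 275),
    (((σ ^ m : ↥Mgrp) : Equiv.Perm (Fin 275)) a).val = (List.range m).foldl (fun x _ => fieldAt c x) a.val
  | 0, a => by simp
  | m + 1, a => by
    rw [pow_succ', Subgroup.coe_mul, Equiv.Perm.mul_apply, h, isCode_pow h m, List.range_succ, List.foldl_append]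
    rfl

theorem nine_exists : ∃ (T X F : ↥Mgrp) (L : Finset ↥Mgrp), orderOf T = 2 ∧ orderOf X = 3 ∧ orderOf F = 5 ∧
    Commute T X ∧ Commute T F ∧ Commute X F ∧ 81 ≤ L.card ∧
    ∀ w ∈ L, w ^ 3 = 1 ∧ Commute w X ∧ T * w * T = w⁻¹ ∧ ∃ r, orderOf r = 2 ∧ Commute r w := by
  classical
  have hb := nineB_ok
  simp only [nineB, Bool.and_eq_true, List.all_eq_true, Nat.blt_eq] at hb
  obtain ⟨hslp, ⟨⟨⟨⟨⟨⟨⟨⟨hT2, hX3⟩, hF5⟩, hT1⟩, hX1⟩, hF1⟩, hTX⟩, hTF⟩, hXF⟩, hpairs⟩ := hb
  have hex : ∀ k, k < nineOps.length → ∃ σ : ↥Mgrp, IsCode (nineCode k) (σ : Equiv.Perm (Fin 275)) := by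
    intro k hk
    obtain ⟨σ, hσ, hσc⟩ := slp_sound nineOps knownM knownM_mem hslp (nineCode k) (List.mem_append_right _ (by
      rw [nineCode, nineCodes, fastGet_eq _ _ (by rwa [List.length_map]), List.getD_eq_getElem _ _ (by rwa [List.length_map])]
      exact List.getElem_mem _))
    exact ⟨⟨σ, hσ⟩, hσc⟩
  have hpow : ∀ {c m : ℕ} {σ : ↥Mgrp}, IsCode c (σ : Equiv.Perm (Fin 275)) → nPowB c m = true → σ ^ m = 1 := by
    intro c m σ hσ h
    simp only [nPowB, List.all_eq_true, List.mem_range] at h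
    refine Subtype.ext (Equiv.ext fun a => Fin.ext ?_)
    rw [isCode_pow hσ m a, Nat.eq_of_beq_eq_true (h a.val a.isLt)]
    rfl
  have hne : ∀ {c : ℕ} {σ : ↥Mgrp}, IsCode c (σ : Equiv.Perm (Fin 275)) → nMovB c = true → σ ≠ 1 := by
    intro c σ hσ h e
    simp only [nMovB, List.any_eq_true, List.mem_range, Bool.not_eq_true'] at h
    obtain ⟨a, ha, h⟩ := h
    have h1 := hσ ⟨a, ha⟩
    rw [e] at h1
    simp only [OneMemClass.coe_one, Equiv.Perm.one_apply] at h1
    rw [← h1, Nat.beq_refl] at h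
    exact absurd h (by decide)
  have hcom : ∀ {c d : ℕ} {σ τ : ↥Mgrp}, IsCode c (σ : Equiv.Perm (Fin 275)) →
      IsCode d (τ : Equiv.Perm (Fin 275)) → nCommB c d = true → Commute σ τ := by
    intro c d σ τ hσ hτ h
    simp only [nCommB, List.all_eq_true, List.mem_range] at h
    refine Subtype.ext (Equiv.ext fun a => Fin.ext ?_)
    have := Nat.eq_of_beq_eq_true (h a.val a.isLt)
    simp only [Subgroup.coe_mul, Equiv.Perm.mul_apply]
    rw [hσ, hτ, hτ, hσ, this]
  choose el hel using fun k : {k // k < nineOps.length} => hex k.1 k.2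
  obtain ⟨T, hT⟩ := hex _ (nineHead_lt 0 (by norm_num))
  obtain ⟨X, hX⟩ := hex _ (nineHead_lt 1 (by norm_num))
  obtain ⟨F, hF⟩ := hex _ (nineHead_lt 2 (by norm_num))
  let E : ℕ → ↥Mgrp := fun k => if hk : k < nineOps.length then el ⟨k, hk⟩ else 1
  have hE : ∀ k < nineOps.length, IsCode (nineCode k) (E k : Equiv.Perm (Fin 275)) := fun k hk => by
    simp only [E, dif_pos hk]; exact hel _
  let lst : List ↥Mgrp := 1 :: ninePairs.flatMap fun p => [E p.1, E p.1 * E p.1]
  let key : ↥Mgrp → ℕ := fun σ => nKey fun a => if h : a < 275 then ((σ : Equiv.Perm (Fin 275)) ⟨a, h⟩).val else 0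
  have hkey : lst.map key = nKeys := by
    have hpts : ∀ p ∈ ninePts, p < 275 := by decide +kernel
    have hk : ∀ (σ : ↥Mgrp) (f : ℕ → ℕ), (∀ a : Fin 275, ((σ : Equiv.Perm (Fin 275)) a).val = f a.val) →
        key σ = nKey f := by
      intro σ f hf
      show ninePts.foldl _ 0 = ninePts.foldl _ 0
      refine List.foldl_ext _ _ _ fun s p hp => ?_
      simp only [dif_pos (hpts p hp)]
      exact congrArg (s * 1024 + ·) (hf ⟨p, hpts p hp⟩)
    show key 1 :: (ninePairs.flatMap fun p => [E p.1, E p.1 * E p.1]).map key = _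
    rw [List.map_flatMap, nKeys]
    refine List.cons_eq_cons.2 ⟨hk 1 id fun a => rfl, ?_⟩
    refine List.flatMap_congr fun p hp => ?_
    have hp1 := (hpairs p hp).1.1.1.1.1.1.1
    rw [List.map_cons, List.map_cons, List.map_nil]
    refine List.cons_eq_cons.2 ⟨hk _ _ fun a => hE _ hp1 a, List.cons_eq_cons.2 ⟨?_, rfl⟩⟩
    exact hk _ _ fun a => by rw [Subgroup.coe_mul, Equiv.Perm.mul_apply, hE _ hp1, hE _ hp1]
  have hnd : lst.Nodup := List.Nodup.of_map key (hkey ▸ nKeys_nodup.1)
  have h2 := Fact.mk Nat.prime_two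
  have h3 := Fact.mk Nat.prime_three
  have h5 := Fact.mk (show Nat.Prime 5 by norm_num)
  have hoT : orderOf T = 2 := orderOf_eq_prime (hpow hT hT2) (hne hT hT1)
  refine ⟨T, X, F, lst.toFinset, hoT, orderOf_eq_prime (hpow hX hX3) (hne hX hX1),
    orderOf_eq_prime (hpow hF hF5) (hne hF hF1), hcom hT hX hTX, hcom hT hF hTF, hcom hX hF hXF, ?_, ?_⟩
  · rw [List.toFinset_card_of_nodup hnd, ← List.length_map (f := key), hkey, nKeys_nodup.2]
  intro w hw
  rw [List.mem_toFinset] at hw
  have hTT : T * T = 1 := by rw [← pow_two]; exact hpow hT hT2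
  rcases List.mem_cons.1 hw with rfl | hw
  · exact ⟨one_pow 3, Commute.one_left X, by rw [mul_one, hTT, inv_one], T, hoT, Commute.one_right T⟩
  obtain ⟨p, hp, hw⟩ := List.mem_flatMap.1 hw
  obtain ⟨⟨⟨⟨⟨⟨⟨hp1, hp2⟩, hw3⟩, hwX⟩, hwT⟩, hr2⟩, hr1⟩, hrw⟩ := hpairs p hp
  have hcw := hE _ hp1
  have hcr := hE _ hp2
  have e3 : E p.1 ^ 3 = 1 := hpow hcw hw3
  have eT : T * E p.1 * T = E p.1 * E p.1 := by
    refine Subtype.ext (Equiv.ext fun a => Fin.ext ?_)
    have := Nat.eq_of_beq_eq_true (hwT a.val (List.mem_range.2 a.isLt))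
    simp only [Subgroup.coe_mul, Equiv.Perm.mul_apply]
    rw [hT, hcw, hT, hcw, hcw, this]
  have einv : (E p.1)⁻¹ = E p.1 * E p.1 :=
    inv_eq_of_mul_eq_one_right (by rw [← pow_two, ← pow_succ', e3])
  have hr : orderOf (E p.2) = 2 := orderOf_eq_prime (hpow hcr hr2) (hne hcr hr1)
  rcases List.mem_cons.1 hw with rfl | hw
  · exact ⟨e3, hcom hcw hX hwX, by rw [eT, einv], E p.2, hr, hcom hcr hcw hrw⟩
  rcases List.mem_cons.1 hw with rfl | hw
  · refine ⟨by rw [← pow_two, ← pow_mul, show 2 * 3 = 3 * 2 from rfl, pow_mul, e3, one_pow],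
      (hcom hcw hX hwX).mul_left (hcom hcw hX hwX), ?_, E p.2, hr, (hcom hcr hcw hrw).mul_right (hcom hcr hcw hrw)⟩
    rw [mul_inv_rev, einv]
    calc T * (E p.1 * E p.1) * T = T * E p.1 * (T * T) * E p.1 * T := by rw [hTT, mul_one, ← mul_assoc]
      _ = T * E p.1 * T * (T * E p.1 * T) := by group
      _ = E p.1 * E p.1 * (E p.1 * E p.1) := by rw [eT]
  · cases hw

end CfsgLib.CoverType
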