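import Cfsg.Agent.Lib.CoverType.NineType
import Cfsg.Agent.Lib.CoverType.NineModel
import Cfsg.Agent.Lib.Leech.McLInvol.Main

/-!
# A cover of degree nine or ten with a subgroup of McLaughlin type over the point stabiliser is impossible
-/

set_option autoImplicit false
set_option maxRecDepth 100000

namespace CfsgLib.CoverType

open Equiv Equiv.Perm AltCover

variable {G : Type*} [Group G] [Finite G] {n : ℕ} {t : G}
  {π : Subgroup.centralizer ({t} : Set G) →* alternatingGroup (Fin n)} {h9 : 9 ≤ n}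
  {x : Subgroup.centralizer ({t} : Set G)}

namespace Nine

variable (N : Nine t π h9 x)
include N

theorem x_mem : (x : G) ∈ coreW (x : G) := by
  let xK : Subgroup.centralizer ({(x : G)} : Set G) := ⟨x, Subgroup.mem_centralizer_singleton_iff.2 rfl⟩
  haveI : (Subgroup.zpowers xK).Normal := ⟨fun z hz a => by
    obtain ⟨k, rfl⟩ := Subgroup.mem_zpowers_iff.1 hz
    have hc : Commute a xK := Subtype.ext (Subgroup.mem_centralizer_singleton_iff.1 a.2)
    rw [(hc.zpow_right k).eq, mul_inv_cancel_right]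
    exact Subgroup.zpow_mem_zpowers _ _⟩
  have hodd : Odd (Nat.card (Subgroup.zpowers xK)) := by
    rw [Nat.card_zpowers]
    exact Odd.of_dvd_nat (by decide : Odd 3) (orderOf_dvd_of_pow_eq_one (Subtype.ext N.cubeG))
  exact ⟨xK, Cores.le_oddCore_of_odd hodd (Subgroup.mem_zpowers xK), rfl⟩

/-- An inverted element is determined by its class modulo the powers of `x`. -/
theorem eq_of_inverted {w w' : G} (hwx : Commute w (x : G)) (h1 : t * w * t = w⁻¹) (h2 : t * w' * t = w'⁻¹)
    (hz : w⁻¹ * w' ∈ Subgroup.zpowers (x : G)) : w = w' := by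
  obtain ⟨k, hk⟩ := Subgroup.mem_zpowers_iff.1 hz
  have hcube := N.zpow_cube hz
  have hw' : w' = w * (x : G) ^ k := by rw [hk]; group
  have htk : t * (x : G) ^ k * t = (x : G) ^ k := by
    rw [(N.tx.symm.zpow_right k).eq, mul_assoc, N.tt, mul_one]
  rw [hw', show t * (w * (x : G) ^ k) * t = t * w * (t * t) * (x : G) ^ k * t by
    rw [N.tt, mul_one, ← mul_assoc], show t * w * (t * t) * (x : G) ^ k * t = t * w * t * (t * (x : G) ^ k * t) by
    group, h1, htk, mul_inv_rev, ← ((hwx.inv_left.zpow_right k).inv_right).eq, mul_right_inj] at h2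
  have : (x : G) ^ k = 1 := eq_one_of_sq_cube (eq_inv_iff_mul_eq_one.1 h2) (by rw [hk]; exact hcube)
  rw [hw', this, mul_one]

/-- An element of order three modulo the powers of `x` is a product of one fixed by `s` and one fixed by `ts`. -/
theorem exists_decomp {s i j : G} (S : Side t (x : G) s i j) {w : G} (hw : w ∈ coreW (x : G)) (hw3 : w ^ 3 = 1) :
    ∃ a b : G, (a ∈ coreW (x : G) ∧ Commute a s ∧ a ^ 3 = 1) ∧
      (b ∈ coreW (x : G) ∧ Commute b (t * s) ∧ b ^ 3 = 1) ∧ w⁻¹ * (a * b) ∈ Subgroup.zpowers (x : G) := by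
  haveI : N.cen.Normal := ⟨fun z hz a => by
    have hz' : (z : G) ∈ Subgroup.zpowers (x : G) := hz
    show (a : G) * z * (a : G)⁻¹ ∈ Subgroup.zpowers (x : G)
    rw [(N.zpow_comm a.2 hz').1.eq, mul_inv_cancel_right]
    exact hz'⟩
  letI : CommGroup (coreW (x : G) ⧸ N.cen) :=
    { (inferInstance : Group (coreW (x : G) ⧸ N.cen)) with
      mul_comm := fun p q => by
        obtain ⟨a, rfl⟩ := QuotientGroup.mk_surjective p
        obtain ⟨b, rfl⟩ := QuotientGroup.mk_surjective q
        rw [← QuotientGroup.mk_mul, ← QuotientGroup.mk_mul, QuotientGroup.eq]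
        exact N.core_mod.2 a a.2 b b.2 }
  let mk : coreW (x : G) →* coreW (x : G) ⧸ N.cen := QuotientGroup.mk' _
  have heq : ∀ a b : coreW (x : G), mk a = mk b → (a : G)⁻¹ * b ∈ Subgroup.zpowers (x : G) := fun a b h =>
    (QuotientGroup.eq.1 h :)
  have hone : ∀ a : coreW (x : G), mk a = 1 → (a : G) ∈ Subgroup.zpowers (x : G) := fun a h =>
    ((QuotientGroup.eq_one_iff a).1 h :)
  have hp := N.conj_s_mem S hw
  let W : coreW (x : G) := ⟨w, hw⟩
  let P : coreW (x : G) := ⟨s * w * s, hp⟩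
  have hW3 : mk W ^ 3 = 1 := by
    rw [← map_pow, show W ^ 3 = 1 from Subtype.ext hw3, map_one]
  have hsinv : s⁻¹ = s := inv_eq_of_mul_eq_one_right S.ss
  have hP3 : mk P ^ 3 = 1 := by
    rw [← map_pow, show P ^ 3 = 1 from Subtype.ext (by
      show (s * w * s) ^ 3 = 1
      nth_rw 2 [← hsinv]
      rw [conj_pow, hw3, mul_one, mul_inv_cancel]), map_one]
  have hss : ∀ a b : G, s * (a * b) * s = s * a * s * (s * b * s) := fun a b => by
    rw [show s * a * s * (s * b * s) = s * a * (s * s) * b * s by group, S.ss, mul_one]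
    group
  have hsPW : s * (s * w * s) * s = w := by
    rw [show s * (s * w * s) * s = s * s * w * (s * s) by group, S.ss, one_mul, mul_one]
  set U : coreW (x : G) := W * P * (W * P) with hU
  set V : coreW (x : G) := W * P⁻¹ * (W * P⁻¹) with hV
  obtain ⟨a, ha, haU⟩ := N.exists_fixed_rep S U.2 N.x_mem (hone (U ^ 3) (by
      rw [map_pow, hU, map_mul, map_mul, mul_pow, mul_pow, hW3, hP3]; simp)) (heq U ⟨_, N.conj_s_mem S U.2⟩ (by
      have h2 : (⟨s * (U : G) * s, N.conj_s_mem S U.2⟩ : coreW (x : G)) = P * W * (P * W) := Subtype.ext (by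
        show s * (w * (s * w * s) * (w * (s * w * s))) * s = s * w * s * w * (s * w * s * w)
        rw [hss, hss, hsPW])
      rw [h2, hU, map_mul, map_mul, map_mul, map_mul]
      ac_rfl))
  obtain ⟨b, hb, hbV⟩ := N.exists_fixed_rep (N.side_twist S) V.2 N.x_mem (hone (V ^ 3) (by
      rw [map_pow, hV, map_mul, map_mul, map_inv, mul_pow, mul_pow, inv_pow, hW3, hP3]; simp))
      (heq V ⟨_, N.conj_s_mem (N.side_twist S) V.2⟩ (by
      set Y : coreW (x : G) := ⟨s * (V : G) * s, N.conj_s_mem S V.2⟩ with hY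
      have h2 : Y = P * W⁻¹ * (P * W⁻¹) := Subtype.ext (by
        have hsw : s * (s * w * s)⁻¹ * s = w⁻¹ := by
          rw [mul_inv_rev, mul_inv_rev, hsinv, show s * (s * (w⁻¹ * s)) * s = s * s * w⁻¹ * (s * s) by group, S.ss,
            one_mul, mul_one]
        show s * (w * (s * w * s)⁻¹ * (w * (s * w * s)⁻¹)) * s = s * w * s * w⁻¹ * (s * w * s * w⁻¹)
        rw [hss, hss, hsw])
      have h3 : (⟨t * s * (V : G) * (t * s), N.conj_s_mem (N.side_twist S) V.2⟩ : coreW (x : G)) =
          ⟨t * (Y : G) * t, N.conj_t_mem Y.2⟩ := Subtype.ext (by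
        show t * s * (V : G) * (t * s) = t * (s * V * s) * t
        rw [show t * s = s * t from S.st.symm.eq]
        nth_rw 1 [show s * t = t * s from S.st.eq]
        group)
      have h4 : mk ⟨t * (Y : G) * t, N.conj_t_mem Y.2⟩ = (mk Y)⁻¹ := by
        refine eq_inv_of_mul_eq_one_right ?_
        rw [← map_mul]
        exact (QuotientGroup.eq_one_iff _).2 (N.core_mod.1 Y Y.2)
      rw [h3, h4, h2, hV]
      simp only [map_mul, map_inv, mul_inv_rev, inv_inv]))
  refine ⟨a, b, ha, hb, ?_⟩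
  let A' : coreW (x : G) := ⟨a, ha.1⟩
  let B' : coreW (x : G) := ⟨b, hb.1⟩
  have eA : mk U = mk A' := QuotientGroup.eq.2 haU
  have eB : mk V = mk B' := QuotientGroup.eq.2 hbV
  refine heq W (A' * B') ?_
  rw [map_mul, ← eA, ← eB, hU, hV]
  simp only [map_mul, map_inv]
  symm
  calc mk W * mk P * (mk W * mk P) * (mk W * (mk P)⁻¹ * (mk W * (mk P)⁻¹))
      = mk W * mk W * mk W * mk W * ((mk P * (mk P)⁻¹) * (mk P * (mk P)⁻¹)) := by ac_rfl
    _ = mk W := by rw [mul_inv_cancel, mul_one, mul_one, ← pow_two, ← pow_succ, hW3, one_mul]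

/-- The list of inverted elements is contradictory. -/
theorem false_of_list {s i j : G} (S : Side t (x : G) s i j) (hcl : ∀ u : G, orderOf u = 2 → IsConj u t)
    (L : Finset G) (hL : 81 ≤ L.card) (hw : ∀ w ∈ L, w ^ 3 = 1 ∧ Commute w (x : G) ∧ t * w * t = w⁻¹ ∧
      ∃ v : Subgroup.centralizer ({t} : Set G), IsConj w (v : G) ∧ (π v : Perm (Fin n)).cycleType.sum ≤ 8) :
    False := by
  classical
  obtain ⟨A, hA⟩ := N.exists_fixed S
  obtain ⟨B, hB⟩ := N.exists_fixed (N.side_twist S)
  choose fa fb hfa hfb hfz using fun w : L =>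
    N.exists_decomp S (N.mem_core_of_inverted (hw w w.2).1 (hw w w.2).2.1 (hw w w.2).2.2.1) (hw w w.2).1
  let f : L → A × B := fun w => (⟨fa w, (hA _).2 (hfa w)⟩, ⟨fb w, (hB _).2 (hfb w)⟩)
  have hf : Function.Injective f := by
    intro u v huv
    have e1 : fa u = fa v := congrArg (fun p : A × B => (p.1 : G)) huv
    have e2 : fb u = fb v := congrArg (fun p : A × B => (p.2 : G)) huv
    refine Subtype.ext (N.eq_of_inverted (hw u u.2).2.1 (hw u u.2).2.2.1 (hw v v.2).2.2.1 ?_)
    have h1 := mul_mem (hfz u) (inv_mem (hfz v))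
    rw [e1, e2, show (u : G)⁻¹ * (fa v * fb v) * ((v : G)⁻¹ * (fa v * fb v))⁻¹ = (u : G)⁻¹ * v by group] at h1
    exact h1
  have hcard := Nat.card_le_card_of_injective f hf
  have hA9 : Nat.card A = 9 ∧ Nat.card B = 9 := by
    have h1 := N.card_fixed S hA hcl
    have h2 := N.card_fixed (N.side_twist S) hB hcl
    rw [Nat.card_prod, Nat.card_eq_fintype_card (α := L), Fintype.card_coe] at hcard
    rcases h1 with h1 | h1 <;> rcases h2 with h2 | h2 <;> rw [h1, h2] at hcard ⊢ <;> omega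
  have hbij : Function.Bijective f := hf.bijective_of_nat_card_le (by
    rw [Nat.card_prod, hA9.1, hA9.2, Nat.card_eq_fintype_card (α := L), Fintype.card_coe]; exact hL)
  -- a nontrivial fixed element
  obtain ⟨y, hy1⟩ : ∃ y : A, y ≠ 1 := by
    haveI : Nontrivial A := Finite.one_lt_card_iff_nontrivial.1 (by rw [hA9.1]; norm_num)
    exact exists_ne 1
  obtain ⟨w, hw'⟩ := hbij.2 (y, 1)
  have ea : fa w = (y : G) := congrArg (fun p : A × B => (p.1 : G)) hw'
  have eb : fb w = 1 := congrArg (fun p : A × B => (p.2 : G)) hw'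
  have hwy : (w : G) = y := by
    refine N.eq_of_inverted (hw w w.2).2.1 (hw w w.2).2.2.1 (N.t_inverts S hA y.2) ?_
    have := hfz w
    rwa [ea, eb, mul_one] at this
  obtain ⟨v, hv, hv8⟩ := (hw w w.2).2.2.2
  rw [hwy] at hv
  obtain ⟨k, hk, hkt⟩ := N.type_fixed S hA hcl hA9.1 y.2 (fun e => hy1 (Subtype.ext e))
  obtain ⟨γ, hγ⟩ := isConj_iff.1 (hk.symm.trans hv)
  -- the two involutions commuting with the lift are conjugate there
  have hkodd : ∀ z : G, orderOf z = 2 → Commute z t → Commute z (k : G) → z = t := by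
    intro z hz hzt hzk
    let z' : Subgroup.centralizer ({t} : Set G) := ⟨z, Subgroup.mem_centralizer_singleton_iff.2 hzt.eq⟩
    have hzz : z' * z' = 1 := Subtype.ext (Invol.mul_self_of_orderOf_two hz)
    by_contra hne
    have h1 : π z' ≠ 1 := fun e => ((N.cov.ker z').1 e).elim
      (fun e => Invol.ne_one_of_orderOf_two hz (congrArg Subtype.val e)) fun e => hne (congrArg Subtype.val e)
    have hc : π z' ∈ Subgroup.centralizer ({π k} : Set (alternatingGroup (Fin n))) :=
      Subgroup.mem_centralizer_singleton_iff.2 ((show Commute z' k from Subtype.ext hzk.eq).map π).eq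
    have ho : orderOf (π z') = 2 := orderOf_eq_prime (hp := ⟨Nat.prime_two⟩) (by
      rw [pow_two, ← map_mul, hzz, map_one]) h1
    refine card_centralizer_three N.hn hkt ?_
    rw [← ho, ← Subgroup.orderOf_mk (π z') hc]
    exact orderOf_dvd_natCard _
  let K := Subgroup.centralizer ({(k : G)} : Set G)
  have hvt : Commute (v : G) t := Subgroup.mem_centralizer_singleton_iff.1 v.2
  have hkt' : Commute (k : G) t := Subgroup.mem_centralizer_singleton_iff.1 k.2
  let tK : K := ⟨t, Subgroup.mem_centralizer_singleton_iff.2 hkt'.symm.eq⟩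
  let uK : K := ⟨γ⁻¹ * t * γ, Subgroup.mem_centralizer_singleton_iff.2 (by
    have h := hvt.symm.conj γ⁻¹
    rw [inv_inv, ← hγ, show γ⁻¹ * (γ * (k : G) * γ⁻¹) * γ = k by group] at h
    exact h.eq)⟩
  have hu2 : orderOf (γ⁻¹ * t * γ) = 2 := by
    have := (Invol.orderOf_conj_eq γ⁻¹ t).trans N.ord
    rwa [inv_inv] at this
  have ht2 : orderOf tK = 2 := (Subgroup.orderOf_coe tK).symm.trans N.ord
  have hu2' : orderOf uK = 2 := (Subgroup.orderOf_coe uK).symm.trans hu2
  obtain ⟨d, hd⟩ : IsConj tK uK := by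
    by_contra hne
    obtain ⟨z, hz, hzt, hzu, -⟩ := Invol.exists_common_involution ht2 hu2' hne
    have hzeq : z = tK := Subtype.ext (hkodd z ((Subgroup.orderOf_coe z).trans hz) (congrArg Subtype.val hzt.eq)
      (Subgroup.mem_centralizer_singleton_iff.1 z.2))
    rw [hzeq] at hzu
    have hueq : uK = tK := Subtype.ext (hkodd _ hu2 (congrArg Subtype.val hzu.symm.eq)
      (Subgroup.mem_centralizer_singleton_iff.1 uK.2))
    exact hne (hueq ▸ IsConj.refl _)
  have hd' : (d : K) * tK = uK * d := hd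
  have hd'' : ((d : K) : G) * t = γ⁻¹ * t * γ * ((d : K) : G) := congrArg Subtype.val hd'
  let e : Subgroup.centralizer ({t} : Set G) := ⟨γ * ((d : K) : G), Subgroup.mem_centralizer_singleton_iff.2 (by
    rw [mul_assoc, hd'']; group)⟩
  have hek : e * k * e⁻¹ = v := Subtype.ext (by
    have hdk : ((d : K) : G) * k = k * ((d : K) : G) :=
      Subgroup.mem_centralizer_singleton_iff.1 (d : K).2
    show γ * ((d : K) : G) * (k : G) * (γ * ((d : K) : G))⁻¹ = v
    rw [← hγ, show γ * ((d : K) : G) * (k : G) * (γ * ((d : K) : G))⁻¹ =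
      γ * (((d : K) : G) * k * ((d : K) : G)⁻¹) * γ⁻¹ by group, hdk, mul_inv_cancel_right])
  rw [← hek, map_mul, map_mul, map_inv, Subgroup.coe_mul, Subgroup.coe_mul, InvMemClass.coe_inv, cycleType_conj,
    hkt] at hv8
  exact absurd hv8 (by decide)

/-- The two reflections and the two roots of `t`. -/
theorem exists_side : ∃ s i j : G, Side t (x : G) s i j := by
  have h5 : 5 ≤ n := by omega
  obtain ⟨⟨fXI, fXJ, fIK, fKX⟩, ⟨fK, fL, fu, fv, fu', fv'⟩, ⟨fIu, fIv, fJu, fJv⟩, -, -, fne, -⟩ := nine_facts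
  obtain ⟨-, tI, tJ, tK, tL, tIJ⟩ := nine_types
  obtain ⟨i, hi⟩ := N.cov.surj (inc9 h9 nI)
  obtain ⟨j, hj⟩ := N.cov.surj (inc9 h9 nJ)
  obtain ⟨k, hk⟩ := N.cov.surj (inc9 h9 nK)
  obtain ⟨l, hl⟩ := N.cov.surj (inc9 h9 nL)
  have hsq : ∀ (g : Subgroup.centralizer ({t} : Set G)) (b : alternatingGroup (Fin 9)),
      π g = inc9 h9 b → (b : Perm (Fin 9)).cycleType = R 2 → g * g = tC t := fun g b hg hb =>
    N.cov.dt_sq h5 (by rw [hg, inc9_cycleType, hb])
  have hcube : ∀ b : alternatingGroup (Fin 9), b ^ 3 = 1 → inc9 h9 b ^ 3 = 1 := fun b hb => by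
    rw [← map_pow, hb, map_one]
  have hfix : ∀ a b : alternatingGroup (Fin 9), a * b * a⁻¹ = b →
      inc9 h9 a * inc9 h9 b * (inc9 h9 a)⁻¹ = inc9 h9 b := fun a b hab => by
    rw [← map_mul, ← map_inv, ← map_mul, hab]
  have hik : Commute i k := commute_of_factors N.cov (hcube _ fu) (hcube _ fv) (by rw [hk, fK, map_mul])
    (by rw [hi, hfix _ _ fIu]) (by rw [hi, hfix _ _ fIv])
  have hjl : Commute j l := commute_of_factors N.cov (hcube _ fu') (hcube _ fv') (by rw [hl, fL, map_mul])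
    (by rw [hj, hfix _ _ fJu]) (by rw [hj, hfix _ _ fJv])
  have hs : π (i * k) = inc9 h9 (nI * nK) := by rw [map_mul, hi, hk, map_mul]
  have hss : i * k * (i * k) = 1 := by
    rw [← pow_two, hik.mul_pow, pow_two, pow_two, hsq i _ hi tI, hsq k _ hk tK, N.cov.sq_z]
  have hne : π (i * k) ≠ 1 := fun e => fne (inc9_injective h9 (by rw [← hs, e, map_one]))
  have hsj : Commute j (i * k) := by
    rcases N.cov.eq_or (x := i * k) (y := j * l) (by rw [hs, fIK, map_mul, map_mul, hj, hl]) with e | e <;> rw [e]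
    · exact (Commute.refl j).mul_right hjl
    · exact (show Commute j (tC t) from N.cov.central j).mul_right ((Commute.refl j).mul_right hjl)
  have hx' : π (i * k) * π x * (π (i * k))⁻¹ = π x⁻¹ := by
    rw [map_inv π x, hs, N.img, tX, ← map_inv (inc9 h9) (nI * nK), ← map_mul, ← map_mul, fKX, map_inv]
  have hsx := conj_eq_of_cube N.cov N.cube (by rw [inv_pow, N.cube, inv_one]) hx'
  have hcom : ∀ (g : Subgroup.centralizer ({t} : Set G)) (b : alternatingGroup (Fin 9)),
      π g = inc9 h9 b → nX * b = b * nX → Commute (g : G) x := fun g b hg hb =>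
    N.comm_of_img (by rw [hg, tX]; exact (show Commute b nX from hb.symm).map _)
  refine ⟨((i * k : Subgroup.centralizer ({t} : Set G)) : G), i, j, congrArg Subtype.val hss, fun e => hne ?_,
    fun e => hne ?_, Subgroup.mem_centralizer_singleton_iff.1 (i * k).2, congrArg Subtype.val hsx,
    congrArg Subtype.val ((Commute.refl i).mul_right hik).eq, congrArg Subtype.val hsj.eq,
    congrArg Subtype.val (hsq i _ hi tI), congrArg Subtype.val (hsq j _ hj tJ),
    congrArg Subtype.val (hsq (i⁻¹ * j) _ (by rw [map_mul, map_inv, hi, hj, map_mul, map_inv]) tIJ),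
    hcom i _ hi fXI, hcom j _ hj fXJ⟩
  · rw [show i * k = 1 from Subtype.ext e, map_one]
  · rw [show i * k = tC t from Subtype.ext e, N.cov.map_z]

end Nine

/-- The projection may be renumbered so that a lift of a three-cycle lies over the standard one. -/
theorem exists_renumber (hπ : Cover π (tC t)) (h9 : 9 ≤ n) {x : Subgroup.centralizer ({t} : Set G)}
    (hx : (π x : Perm (Fin n)).cycleType = {3}) :
    ∃ g : alternatingGroup (Fin n), g * π x * g⁻¹ = tX h9 ∧ Cover ((MulAut.conj g).toMonoidHom.comp π) (tC t) := by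
  have ht : (tX h9 : Perm (Fin n)).cycleType = {3} := by rw [tX, inc9_cycleType]; exact nine_types.1
  obtain ⟨σ, hσ⟩ := isConj_iff.1 (isConj_iff_cycleType_eq.2 (hx.trans ht.symm))
  obtain ⟨g, hg⟩ : ∃ g : alternatingGroup (Fin n), g * π x * g⁻¹ = tX h9 := by
    rcases Int.units_eq_one_or (sign σ) with hs | hs
    · exact ⟨⟨σ, mem_alternatingGroup.2 hs⟩, Subtype.ext hσ⟩
    · let a : Fin n := ⟨3, by omega⟩
      let b : Fin n := ⟨4, by omega⟩
      have hab : a ≠ b := by simp [a, b]
      refine ⟨⟨swap a b * σ, mem_alternatingGroup.2 (by rw [map_mul, hs, sign_swap hab]; rfl)⟩, Subtype.ext ?_⟩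
      show swap a b * σ * (π x : Perm (Fin n)) * (swap a b * σ)⁻¹ = (tX h9 : Perm (Fin n))
      have hfa : (tX h9 : Perm (Fin n)) a = a := not_ne_iff.1 fun e => absurd ((tX_low h9 a).1 e) (by simp [a])
      have hfb : (tX h9 : Perm (Fin n)) b = b := not_ne_iff.1 fun e => absurd ((tX_low h9 b).1 e) (by simp [b])
      have hc := swap_apply_apply (tX h9 : Perm (Fin n)) a b
      rw [hfa, hfb] at hc
      rw [mul_inv_rev, show swap a b * σ * (π x : Perm (Fin n)) * (σ⁻¹ * (swap a b)⁻¹) =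
        swap a b * (σ * (π x : Perm (Fin n)) * σ⁻¹) * (swap a b)⁻¹ by group, hσ]
      rw [mul_inv_eq_iff_eq_mul]
      nth_rw 1 [hc]
      group
  refine ⟨g, hg, ⟨(MulAut.conj g).surjective.comp hπ.surj, fun h => ?_, hπ.zne, hπ.central, hπ.perfect⟩⟩
  show MulAut.conj g (π h) = 1 ↔ _
  rw [EmbeddingLike.map_eq_one_iff]
  exact hπ.ker h

/-- The model has one class of involutions with centraliser of order 40320. -/
theorem model_involutions : (∀ u v : ↥McLRec.Mgrp, orderOf u = 2 → orderOf v = 2 → IsConj u v) ∧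
    ∀ u : ↥McLRec.Mgrp, orderOf u = 2 → Nat.card (Subgroup.centralizer ({u} : Set ↥McLRec.Mgrp)) = 40320 := by
  obtain ⟨e⟩ := McLRec.isoMcL_Mgrp
  obtain ⟨hcl, t₀, ht₀, h2, ⟨q⟩, -⟩ := Leech.McLInvol.mclaughlin_involutions
  have hcard : Nat.card (Subgroup.centralizer ({t₀} : Set ↥Cfsg.Spor.McL)) = 40320 := by
    rw [Subgroup.card_eq_card_quotient_mul_card_subgroup
      (Subgroup.center (Subgroup.centralizer ({t₀} : Set ↥Cfsg.Spor.McL))), Nat.card_congr q.toEquiv, h2, mul_comm,
      two_mul_nat_card_alternatingGroup, Nat.card_perm, Nat.card_fin]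
    rfl
  have ho : ∀ u : ↥McLRec.Mgrp, orderOf u = 2 → orderOf (e u) = 2 := fun u hu => by
    rw [MulEquiv.orderOf_eq, hu]
  refine ⟨fun u v hu hv => ?_, fun u hu => ?_⟩
  · simpa using e.symm.toMonoidHom.map_isConj (hcl _ _ (ho u hu) (ho v hv))
  · rw [← hcard, Invol.card_centralizer_of_isConj (hcl _ _ (ho u hu) ht₀)]
    refine Nat.card_congr (e.toEquiv.subtypeEquiv fun a => ?_)
    simp only [Subgroup.mem_centralizer_singleton_iff, MulEquiv.toEquiv_eq_coe, MulEquiv.coe_toEquiv, ← map_mul,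
      e.injective.eq_iff]

/-- Degree nine or ten is impossible. -/
theorem false_of_mcl (hn : n = 9 ∨ n = 10) (ht : orderOf t = 2) (hπ : Cover π (tC t))
    (hcl : ∀ u : G, orderOf u = 2 → IsConj u t) (B : Below t π) (M : Subgroup G) (hle : B.iota.range ≤ M)
    (hM : Nonempty (M ≃* ↥McLRec.Mgrp)) : False := by
  classical
  obtain ⟨φ⟩ := hM
  have h9 : 9 ≤ n := by omega
  obtain ⟨hclM, hcM⟩ := model_involutions
  let tM : M := ⟨t, hle ⟨_, B.map_t⟩⟩
  have htM : orderOf tM = 2 := (Subgroup.orderOf_coe tM).symm.trans ht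
  have hφt : orderOf (φ tM) = 2 := by rw [MulEquiv.orderOf_eq, htM]
  -- the centraliser inside `M` is the point stabiliser
  have hrange : ∀ g ∈ M, Commute g t → g ∈ B.iota.range := by
    set S := (Subgroup.centralizer ({tM} : Set M)).map M.subtype with hS
    have hcard : Nat.card S = Nat.card B.iota.range := by
      rw [hS, Subgroup.card_map_of_injective M.subtype_injective, ← Nat.card_congr
        (MonoidHom.ofInjective B.inj).toEquiv, McLType.card_Cm, ← hcM _ hφt]
      refine Nat.card_congr (φ.toEquiv.subtypeEquiv fun a => ?_)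
      simp only [Subgroup.mem_centralizer_singleton_iff, MulEquiv.toEquiv_eq_coe, MulEquiv.coe_toEquiv, ← map_mul,
        φ.injective.eq_iff]
    have hsub : B.iota.range ≤ S := by
      rintro _ ⟨c, rfl⟩
      exact ⟨⟨B.iota c, hle ⟨c, rfl⟩⟩, Subgroup.mem_centralizer_singleton_iff.2
        (Subtype.ext (Subgroup.mem_centralizer_singleton_iff.1 (B.mem c))), rfl⟩
    have heq := Subgroup.eq_of_le_of_card_ge hsub hcard.le
    intro g hg hgt
    rw [heq]
    exact ⟨⟨g, hg⟩, Subgroup.mem_centralizer_singleton_iff.2 (Subtype.ext hgt.eq), rfl⟩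
  have hsum : ∀ v : Subgroup.centralizer ({t} : Set G), (v : G) ∈ M →
      (π v : Perm (Fin n)).cycleType.sum ≤ 8 := by
    intro v hv
    obtain ⟨c, hc⟩ := hrange v hv (Subgroup.mem_centralizer_singleton_iff.1 v.2)
    rw [sum_cycleType, show v = ⟨B.iota c, B.mem c⟩ from Subtype.ext hc.symm]
    refine le_trans (Finset.card_le_card (t := Finset.univ.filter fun i : Fin n => i.val < 8) fun i hi => ?_) ?_
    · simp only [Finset.mem_filter, Finset.mem_univ, true_and]
      exact not_le.1 fun h8 => mem_support.1 hi (B.fix c i h8)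
    · rcases hn with rfl | rfl <;> decide
  -- transport of the model elements
  obtain ⟨T, X, F, L, hT, hX, hF, hTX, hTF, hXF, hL, hLw⟩ := nine_exists
  obtain ⟨m, hm⟩ := isConj_iff.1 (hclM T (φ tM) hT hφt)
  let σ : ↥McLRec.Mgrp →* G :=
    M.subtype.comp ((φ.symm.toMonoidHom).comp (MulAut.conj m).toMonoidHom)
  have hσ : Function.Injective σ := M.subtype_injective.comp (φ.symm.injective.comp (MulAut.conj m).injective)
  have hσM : ∀ a, σ a ∈ M := fun a => SetLike.coe_mem (φ.symm (MulAut.conj m a))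
  have hσT : σ T = t := by
    show ((φ.symm (m * T * m⁻¹) : M) : G) = t
    rw [hm, MulEquiv.symm_apply_apply]
  have hσC : ∀ a, Commute T a → σ a ∈ Subgroup.centralizer ({t} : Set G) := fun a ha =>
    Subgroup.mem_centralizer_singleton_iff.2 (hσT ▸ (ha.symm.map σ).eq)
  let x : Subgroup.centralizer ({t} : Set G) := ⟨σ X, hσC X hTX⟩
  let f : Subgroup.centralizer ({t} : Set G) := ⟨σ F, hσC F hTF⟩
  have hx3 : orderOf x = 3 := by
    rw [← Subgroup.orderOf_coe]; exact (orderOf_injective σ hσ X).trans hX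
  have hf5 : orderOf f = 5 := by
    rw [← Subgroup.orderOf_coe]; exact (orderOf_injective σ hσ F).trans hF
  have hxc : x ^ 3 = 1 := hx3 ▸ pow_orderOf_eq_one x
  -- the image is a three-cycle
  have hπne : ∀ (g : Subgroup.centralizer ({t} : Set G)) (p : ℕ), p.Prime → orderOf g = p → p ≠ 2 →
      orderOf (π g : Perm (Fin n)) = p := by
    intro g p hp hg hp2
    haveI := Fact.mk hp
    rw [Subgroup.orderOf_coe]
    refine orderOf_eq_prime (by rw [← map_pow, ← hg, pow_orderOf_eq_one, map_one]) fun e => ?_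
    rcases (hπ.ker g).1 e with h | h
    · rw [h, orderOf_one] at hg; exact hp.one_lt.ne hg
    · exact hp2 (by rw [← hg, h, ← Subgroup.orderOf_coe]; exact ht)
  have hπx := hπne x 3 Nat.prime_three hx3 (by norm_num)
  obtain ⟨r, hr⟩ := cycleType_prime_order (σ := (π x : Perm (Fin n))) (by rw [hπx]; exact Nat.prime_three)
  rw [hπx] at hr
  have hxtype : (π x : Perm (Fin n)).cycleType = {3} := by
    have h8 := hsum x (hσM X)
    rw [hr, Multiset.sum_replicate, smul_eq_mul] at h8
    rcases (by omega : r = 0 ∨ r = 1) with rfl | rfl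
    · rw [hr]; rfl
    · exfalso
      have hmem : (π f : Perm (Fin n)) ∈ Subgroup.centralizer ({(π x : Perm (Fin n))} : Set (Perm (Fin n))) :=
        Subgroup.mem_centralizer_singleton_iff.2 (congrArg Subtype.val
          ((show Commute f x from Subtype.ext ((hXF.symm.map σ).eq)).map π).eq)
      have hd : orderOf (⟨_, hmem⟩ : Subgroup.centralizer ({(π x : Perm (Fin n))} : Set (Perm (Fin n)))) ∣ _ :=
        orderOf_dvd_natCard _
      rw [Subgroup.orderOf_mk, hπne f 5 (by norm_num) hf5 (by norm_num), nat_card_centralizer, hr,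
        Fintype.card_fin] at hd
      rcases hn with rfl | rfl <;> exact absurd hd (by decide)
  obtain ⟨g, hg, hπ'⟩ := exists_renumber hπ h9 hxtype
  have N : Nine t ((MulAut.conj g).toMonoidHom.comp π) h9 x := ⟨hπ', ht, by omega, hxc, hg⟩
  obtain ⟨s, i, j, S⟩ := N.exists_side
  refine N.false_of_list S hcl (L.image σ) (by rwa [Finset.card_image_of_injective _ hσ]) fun w hw => ?_
  obtain ⟨a, ha, rfl⟩ := Finset.mem_image.1 hw
  obtain ⟨h3, haX, haT, u, hu, hua⟩ := hLw a ha
  refine ⟨by rw [← map_pow, h3, map_one], haX.map σ, by rw [← hσT, ← map_mul, ← map_mul, haT, map_inv], ?_⟩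
  obtain ⟨c, hc⟩ := isConj_iff.1 (hclM u T hu hT)
  have hca : Commute T (c * a * c⁻¹) := hc ▸ hua.conj c
  refine ⟨⟨σ (c * a * c⁻¹), hσC _ hca⟩, (σ.map_isConj (isConj_iff.2 ⟨c, rfl⟩)), ?_⟩
  show ((g * π _ * g⁻¹ : alternatingGroup (Fin n)) : Perm (Fin n)).cycleType.sum ≤ 8
  rw [Subgroup.coe_mul, Subgroup.coe_mul, InvMemClass.coe_inv, cycleType_conj]
  exact hsum _ (hσM _)

end CfsgLib.CoverType
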