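import Cfsg.Agent.Lib.CoverType.Basic

/-!
# Permutations of nine points inside degree nine or ten, and the centraliser of a three-cycle
-/

set_option autoImplicit false
set_option maxRecDepth 100000

namespace CfsgLib.CoverType

open Equiv Equiv.Perm AltCover

variable {n : ℕ}

/-- The inclusion of degree nine. -/
noncomputable def inc9 (h : 9 ≤ n) : alternatingGroup (Fin 9) →* alternatingGroup (Fin n) where
  toFun b := ⟨(b : Perm (Fin 9)).viaFintypeEmbedding (Fin.castLEEmb h), mem_alternatingGroup.2 (by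
    rw [viaFintypeEmbedding_sign]; exact mem_alternatingGroup.1 b.2)⟩
  map_one' := Subtype.ext (by
    refine Equiv.ext fun i => ?_
    show (1 : Perm (Fin 9)).viaFintypeEmbedding (Fin.castLEEmb h) i = i
    by_cases hi : i ∈ Set.range (Fin.castLEEmb h)
    · obtain ⟨j, rfl⟩ := hi
      rw [viaFintypeEmbedding_apply_image]; rfl
    · rw [viaFintypeEmbedding_apply_notMem_range _ _ hi])
  map_mul' a b := Subtype.ext (Equiv.ext fun i => by
    show (a.1 * b.1).viaFintypeEmbedding (Fin.castLEEmb h) i =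
      a.1.viaFintypeEmbedding (Fin.castLEEmb h) (b.1.viaFintypeEmbedding (Fin.castLEEmb h) i)
    by_cases hi : i ∈ Set.range (Fin.castLEEmb h)
    · obtain ⟨j, rfl⟩ := hi
      exact (viaFintypeEmbedding_apply_image _ _ _).trans ((congrArg _ (viaFintypeEmbedding_apply_image _ _ _)).trans
        (viaFintypeEmbedding_apply_image _ _ _)).symm
    · rw [viaFintypeEmbedding_apply_notMem_range _ _ hi, viaFintypeEmbedding_apply_notMem_range _ _ hi,
        viaFintypeEmbedding_apply_notMem_range _ _ hi])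

theorem inc9_apply (h : 9 ≤ n) (b : alternatingGroup (Fin 9)) (j : Fin 9) :
    (inc9 h b : Perm (Fin n)) (Fin.castLE h j) = Fin.castLE h ((b : Perm (Fin 9)) j) :=
  viaFintypeEmbedding_apply_image _ _ _

theorem inc9_injective (h : 9 ≤ n) : Function.Injective (inc9 h) := fun a b e =>
  Subtype.ext (Equiv.ext fun j => Fin.castLE_injective h (by rw [← inc9_apply, ← inc9_apply, e]))

theorem inc9_cycleType (h : 9 ≤ n) (b : alternatingGroup (Fin 9)) :
    (inc9 h b : Perm (Fin n)).cycleType = (b : Perm (Fin 9)).cycleType := by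
  show (Perm.viaFintypeEmbedding (b : Perm (Fin 9)) (Fin.castLEEmb h)).cycleType = _
  rw [Perm.viaFintypeEmbedding, cycleType_extendDomain]

/-- The three-cycle. -/
def nX : alternatingGroup (Fin 9) := ⟨swap 0 1 * swap 1 2, mem_alternatingGroup.2 (by decide)⟩

/-- Two double transpositions generating a quaternion group with their lifts. -/
def nI : alternatingGroup (Fin 9) := ⟨swap 3 4 * swap 5 6, mem_alternatingGroup.2 (by decide)⟩

/-- The second double transposition. -/
def nJ : alternatingGroup (Fin 9) := ⟨swap 3 4 * swap 7 8, mem_alternatingGroup.2 (by decide)⟩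

/-- The complement of the first in the inverting element. -/
def nK : alternatingGroup (Fin 9) := ⟨swap 1 2 * swap 7 8, mem_alternatingGroup.2 (by decide)⟩

/-- The complement of the second. -/
def nL : alternatingGroup (Fin 9) := ⟨swap 1 2 * swap 5 6, mem_alternatingGroup.2 (by decide)⟩

/-- Factors of the complements. -/
def nKu : alternatingGroup (Fin 9) := ⟨swap 1 7 * swap 1 2, mem_alternatingGroup.2 (by decide)⟩

/-- Factors of the complements. -/
def nKv : alternatingGroup (Fin 9) := ⟨swap 2 8 * swap 2 7, mem_alternatingGroup.2 (by decide)⟩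

/-- Factors of the complements. -/
def nLu : alternatingGroup (Fin 9) := ⟨swap 1 5 * swap 1 2, mem_alternatingGroup.2 (by decide)⟩

/-- Factors of the complements. -/
def nLv : alternatingGroup (Fin 9) := ⟨swap 2 6 * swap 2 5, mem_alternatingGroup.2 (by decide)⟩

theorem nine_facts :
    (nX * nI = nI * nX ∧ nX * nJ = nJ * nX ∧ nI * nK = nJ * nL ∧ nI * nK * nX * (nI * nK)⁻¹ = nX⁻¹) ∧
    (nK = nKu * nKv ∧ nL = nLu * nLv ∧ nKu ^ 3 = 1 ∧ nKv ^ 3 = 1 ∧ nLu ^ 3 = 1 ∧ nLv ^ 3 = 1) ∧
    (nI * nKu * nI⁻¹ = nKu ∧ nI * nKv * nI⁻¹ = nKv ∧ nJ * nLu * nJ⁻¹ = nLu ∧ nJ * nLv * nJ⁻¹ = nLv) ∧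
    (nX ^ 3 = 1 ∧ nX ≠ 1 ∧ nI * nK ≠ 1 ∧ nI ≠ nJ) := by
  decide +kernel

theorem nine_types : (nX : Perm (Fin 9)).cycleType = {3} ∧ (nI : Perm (Fin 9)).cycleType = R 2 ∧
    (nJ : Perm (Fin 9)).cycleType = R 2 ∧ (nK : Perm (Fin 9)).cycleType = R 2 ∧
    (nL : Perm (Fin 9)).cycleType = R 2 ∧ (nI⁻¹ * nJ : alternatingGroup (Fin 9)).1.cycleType = R 2 := by
  refine ⟨by decide +kernel, type22 _ _ _ _ (by decide), type22 _ _ _ _ (by decide), type22 _ _ _ _ (by decide),
    type22 _ _ _ _ (by decide), ?_⟩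
  rw [show (nI⁻¹ * nJ : alternatingGroup (Fin 9)).1 = swap 5 6 * swap 7 8 by decide +kernel]
  exact type22 _ _ _ _ (by decide)

/-- The points fixed by the three-cycle. -/
def low (i : Fin n) : Prop := i.val < 3

/-- The three-cycle in degree `n`. -/
noncomputable def tX (h : 9 ≤ n) : alternatingGroup (Fin n) := inc9 h nX

theorem tX_low (h : 9 ≤ n) (i : Fin n) : (tX h : Perm (Fin n)) i ≠ i ↔ i.val < 3 := by
  have key : ∀ j : Fin 9, (nX : Perm (Fin 9)) j ≠ j ↔ j.val < 3 := by decide +kernel
  constructor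
  · intro hi
    by_contra h3
    refine hi ?_
    by_cases h9 : i.val < 9
    · have hi' : i = Fin.castLE h ⟨i.val, h9⟩ := Fin.ext rfl
      rw [hi', tX, inc9_apply]
      exact congrArg _ (not_ne_iff.1 fun e => h3 ((key _).1 e))
    · exact viaFintypeEmbedding_apply_notMem_range _ _ fun ⟨j, e⟩ => h9 (e ▸ j.isLt)
  · intro h3 e
    have hi' : i = Fin.castLE h ⟨i.val, by omega⟩ := Fin.ext rfl
    rw [hi', tX, inc9_apply] at e
    exact (key _).2 h3 (Fin.castLE_injective h e)

theorem tX_pow_apply (h : 9 ≤ n) (m : ℕ) (j : Fin 9) :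
    ((tX h : Perm (Fin n)) ^ m) (Fin.castLE h j) = Fin.castLE h (((nX : Perm (Fin 9)) ^ m) j) := by
  induction m with
  | zero => rfl
  | succ m ih => rw [pow_succ', pow_succ', Perm.mul_apply, Perm.mul_apply, ih, tX, inc9_apply]

theorem tX_orbit (h : 9 ≤ n) (i : Fin n) (hi : i.val < 3) :
    ∃ k : Fin 3, ((tX h : Perm (Fin n)) ^ k.val) ⟨0, by omega⟩ = i := by
  have key : ∀ j : Fin 9, j.val < 3 → ∃ k : Fin 3, ((nX : Perm (Fin 9)) ^ k.val) 0 = j := by decide +kernel
  obtain ⟨k, hk⟩ := key ⟨i.val, by omega⟩ hi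
  refine ⟨k, ?_⟩
  exact (tX_pow_apply h k 0).trans (Fin.ext (by rw [hk]; rfl))

variable {a : alternatingGroup (Fin n)}

theorem commute_low (h : 9 ≤ n) (ha : Commute a (tX h)) (i : Fin n) :
    ((a : Perm (Fin n)) i).val < 3 ↔ i.val < 3 := by
  have hc : Commute (a : Perm (Fin n)) (tX h : Perm (Fin n)) := congrArg Subtype.val ha
  rw [← tX_low h, ← tX_low h, ← Perm.mul_apply, ← hc.eq, Perm.mul_apply, Ne, Ne, Equiv.apply_eq_iff_eq]

/-- An element commuting with the three-cycle acts on its points as a power of it. -/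
theorem commute_split (h : 9 ≤ n) (ha : Commute a (tX h)) :
    ∃ k : Fin 3, ∀ i : Fin n, i.val < 3 → (a : Perm (Fin n)) i = ((tX h : Perm (Fin n)) ^ k.val) i := by
  have hc : Commute (a : Perm (Fin n)) (tX h : Perm (Fin n)) := congrArg Subtype.val ha
  obtain ⟨k, hk⟩ := tX_orbit h ((a : Perm (Fin n)) ⟨0, by omega⟩) ((commute_low h ha _).2 (show 0 < 3 by norm_num))
  refine ⟨k, fun i hi => ?_⟩
  obtain ⟨j, hj⟩ := tX_orbit h i hi
  rw [← hj, ← Perm.mul_apply, (hc.pow_right _).eq, Perm.mul_apply, ← hk, ← Perm.mul_apply, ← Perm.mul_apply,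
    ← pow_add, ← pow_add, add_comm]

/-- No element of four transpositions commutes with the three-cycle in degree at most ten. -/
theorem not_quad_commute (h : 9 ≤ n) (h10 : n ≤ 10) (ha : Commute a (tX h))
    (hq : (a : Perm (Fin n)).cycleType = R 4) : False := by
  classical
  obtain ⟨k, hk⟩ := commute_split h ha
  have h2 : (a : Perm (Fin n)) ^ 2 = 1 := by
    haveI : Fact (Nat.Prime 2) := ⟨Nat.prime_two⟩
    exact pow_prime_eq_one_iff.2 fun c hc => by
      rw [hq] at hc
      exact Multiset.eq_of_mem_replicate hc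
  have hk0 : ∀ i : Fin n, i.val < 3 → (a : Perm (Fin n)) i = i := by
    have key : ∀ k : Fin 3, ((nX : Perm (Fin 9)) ^ (k.val + k.val)) 0 = 0 → k = 0 := by decide +kernel
    have hlow0 : ((a : Perm (Fin n)) ⟨0, by omega⟩).val < 3 := (commute_low h ha _).2 (show 0 < 3 by norm_num)
    have e1 := hk _ hlow0
    rw [hk ⟨0, by omega⟩ (show 0 < 3 by norm_num)] at e1
    have e2 := congrArg (fun p : Perm (Fin n) => p ⟨0, by omega⟩) h2
    simp only [pow_two, Perm.mul_apply, Perm.one_apply] at e2
    rw [hk ⟨0, by omega⟩ (show 0 < 3 by norm_num), e1, ← Perm.mul_apply, ← pow_add] at e2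
    have e3 := (tX_pow_apply h (k.val + k.val) 0).symm.trans e2
    have hk' : k = 0 := key k (Fin.castLE_injective h (e3.trans (Fin.ext rfl)))
    intro i hi
    rw [hk i hi, hk']
    rfl
  have hsum := sum_cycleType (a : Perm (Fin n))
  rw [hq, Multiset.sum_replicate, smul_eq_mul] at hsum
  have hsub : (a : Perm (Fin n)).support ⊆ Finset.univ.filter fun i : Fin n => 3 ≤ i.val := by
    intro i hi
    simp only [Finset.mem_filter, Finset.mem_univ, true_and]
    by_contra h3
    exact (mem_support.1 hi) (hk0 i (not_le.1 h3))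
  have hcard : (Finset.univ.filter fun i : Fin n => 3 ≤ i.val).card ≤ 7 := by
    rcases (by omega : n = 9 ∨ n = 10) with rfl | rfl <;> decide
  have := (Finset.card_le_card hsub).trans hcard
  omega

/-- The restriction of an element commuting with the three-cycle to the other points. -/
noncomputable def restrHigh (h : 9 ≤ n) :
    Subgroup.centralizer ({tX h} : Set (alternatingGroup (Fin n))) →* Perm {i : Fin n // 3 ≤ i.val} where
  toFun a := (a.1.1).subtypePerm fun i => by
    have := commute_low h (Subgroup.mem_centralizer_singleton_iff.1 a.2) i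
    omega
  map_one' := Equiv.ext fun _ => Subtype.ext rfl
  map_mul' _ _ := Equiv.ext fun _ => Subtype.ext rfl

/-- The inclusion of the alternating group on the other points. -/
noncomputable def incHigh (n : ℕ) : alternatingGroup {i : Fin n // 3 ≤ i.val} →* alternatingGroup (Fin n) where
  toFun b := ⟨ofSubtype (b : Perm {i : Fin n // 3 ≤ i.val}), mem_alternatingGroup.2 (by
    rw [sign_ofSubtype]; exact mem_alternatingGroup.1 b.2)⟩
  map_one' := Subtype.ext (map_one _)
  map_mul' _ _ := Subtype.ext (map_mul _ _ _)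

theorem incHigh_mem (h : 9 ≤ n) (b : alternatingGroup {i : Fin n // 3 ≤ i.val}) :
    incHigh n b ∈ Subgroup.centralizer ({tX h} : Set (alternatingGroup (Fin n))) := by
  refine Subgroup.mem_centralizer_singleton_iff.2 (Subtype.ext (Equiv.ext fun i => ?_))
  show ofSubtype (b : Perm {i : Fin n // 3 ≤ i.val}) ((tX h : Perm (Fin n)) i) =
    (tX h : Perm (Fin n)) (ofSubtype (b : Perm {i : Fin n // 3 ≤ i.val}) i)
  have hfix : ∀ j : Fin n, 3 ≤ j.val → (tX h : Perm (Fin n)) j = j := fun j hj =>
    not_ne_iff.1 fun e => absurd ((tX_low h j).1 e) (by omega)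
  by_cases hi : 3 ≤ i.val
  · rw [hfix i hi, hfix]
    rw [show ofSubtype (b : Perm {i : Fin n // 3 ≤ i.val}) i = ((b : Perm {i : Fin n // 3 ≤ i.val}) ⟨i, hi⟩ : Fin n)
      from Equiv.Perm.ofSubtype_apply_of_mem (b : Perm {i : Fin n // 3 ≤ i.val}) hi]
    exact ((b : Perm {i : Fin n // 3 ≤ i.val}) ⟨i, hi⟩).2
  · have hl : (tX h : Perm (Fin n)) i ≠ i := (tX_low h i).2 (by omega)
    have hl' : ¬ 3 ≤ ((tX h : Perm (Fin n)) i).val := fun h3 =>
      hl ((tX h : Perm (Fin n)).injective (hfix _ h3))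
    rw [show ofSubtype (b : Perm {i : Fin n // 3 ≤ i.val}) i = i from ofSubtype_apply_of_not_mem _ hi,
      show ofSubtype (b : Perm {i : Fin n // 3 ≤ i.val}) ((tX h : Perm (Fin n)) i) = (tX h : Perm (Fin n)) i from
        ofSubtype_apply_of_not_mem _ hl']

/-- An odd subgroup of the centraliser of the three-cycle normalised by that centraliser consists of its powers. -/
theorem odd_normal_le (h : 9 ≤ n) {N : Subgroup (alternatingGroup (Fin n))} (hodd : Odd (Nat.card N))
    (hc : ∀ a ∈ N, Commute a (tX h))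
    (hnorm : ∀ g, Commute g (tX h) → ∀ a ∈ N, g * a * g⁻¹ ∈ N) : N ≤ Subgroup.zpowers (tX h) := by
  classical
  let Cn := Subgroup.centralizer ({tX h} : Set (alternatingGroup (Fin n)))
  have hN : N ≤ Cn := fun a ha => Subgroup.mem_centralizer_singleton_iff.2 (hc a ha).eq
  let f : N →* Perm {i : Fin n // 3 ≤ i.val} := (restrHigh h).comp (Subgroup.inclusion hN)
  have hoddImg : Odd (Nat.card f.range) :=
    Odd.of_dvd_nat hodd (Subgroup.card_range_dvd f)
  have hsign : ∀ p ∈ f.range, sign p = 1 := by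
    intro p hp
    obtain ⟨m, hm⟩ := hoddImg
    have h1 : p ^ Nat.card f.range = 1 := by
      have := congrArg Subtype.val (pow_card_eq_one' (x := (⟨p, hp⟩ : f.range)))
      simpa using this
    have h2 := congrArg sign h1
    rw [map_pow, map_one, hm, pow_succ, pow_mul, Int.units_sq, one_pow, one_mul] at h2
    exact h2
  set Q := f.range.comap (alternatingGroup {i : Fin n // 3 ≤ i.val}).subtype with hQ
  haveI : Q.Normal := ⟨fun q hq b => by
    obtain ⟨a, ha⟩ := hq
    refine ⟨⟨incHigh n b * a.1 * (incHigh n b)⁻¹,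
      hnorm _ (Subgroup.mem_centralizer_singleton_iff.1 (incHigh_mem h b)) _ a.2⟩, ?_⟩
    have hb : restrHigh h ⟨incHigh n b, incHigh_mem h b⟩ = (b : Perm {i : Fin n // 3 ≤ i.val}) :=
      Equiv.ext fun i => Subtype.ext (ofSubtype_apply_coe _ i)
    show restrHigh h (⟨incHigh n b, incHigh_mem h b⟩ * Subgroup.inclusion hN a *
      ⟨incHigh n b, incHigh_mem h b⟩⁻¹) =
        (b : Perm {i : Fin n // 3 ≤ i.val}) * (q : Perm {i : Fin n // 3 ≤ i.val}) *
          (b : Perm {i : Fin n // 3 ≤ i.val})⁻¹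
    rw [map_mul, map_mul, map_inv, hb]
    exact congrArg (fun z => (b : Perm {i : Fin n // 3 ≤ i.val}) * z * (b : Perm {i : Fin n // 3 ≤ i.val})⁻¹) ha⟩
  have hlow : 5 ≤ Nat.card {i : Fin n // 3 ≤ i.val} := by
    rw [Nat.card_eq_fintype_card, Fintype.card_subtype]
    refine le_trans ?_ (Finset.card_le_card (s := (Finset.univ.filter fun i : Fin 9 => 3 ≤ i.val).map
      (Fin.castLEEmb h)) fun i hi => ?_)
    · rw [Finset.card_map]; decide
    · obtain ⟨j, hj, rfl⟩ := Finset.mem_map.1 hi
      simpa using hj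
  haveI : IsSimpleGroup (alternatingGroup {i : Fin n // 3 ≤ i.val}) := alternatingGroup.isSimpleGroup hlow
  have hbot : Q = ⊥ := by
    rcases (inferInstance : Q.Normal).eq_bot_or_eq_top with e | e
    · exact e
    · exfalso
      have hdvd : Nat.card Q ∣ Nat.card f.range := by
        rw [hQ]
        exact Subgroup.card_dvd_of_injective
          ((alternatingGroup {i : Fin n // 3 ≤ i.val}).subtype.subgroupComap f.range) fun u v huv =>
          Subtype.ext (Subtype.ext (congrArg Subtype.val huv :))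
      rw [e, Subgroup.card_top] at hdvd
      have h2 : 2 ∣ Nat.card (alternatingGroup {i : Fin n // 3 ≤ i.val}) := by
        haveI : Nontrivial {i : Fin n // 3 ≤ i.val} := Finite.one_lt_card_iff_nontrivial.1 (by omega)
        have := two_mul_nat_card_alternatingGroup (α := {i : Fin n // 3 ≤ i.val})
        rw [Nat.card_perm] at this
        have h4 : 4 ∣ (Nat.card {i : Fin n // 3 ≤ i.val}).factorial :=
          (Nat.dvd_factorial (by norm_num) (le_trans (by norm_num) hlow))
        omega
      exact absurd (h2.trans hdvd) (fun h3 => (Nat.not_even_iff_odd.2 hoddImg) (even_iff_two_dvd.2 h3))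
  intro a ha
  obtain ⟨k, hk⟩ := commute_split h (hc a ha)
  refine Subgroup.mem_zpowers_iff.2 ⟨k.val, ?_⟩
  rw [zpow_natCast]
  refine Subtype.ext (Equiv.ext fun i => ?_)
  rw [SubmonoidClass.coe_pow]
  by_cases hi : i.val < 3
  · exact (hk i hi).symm
  · have hq : f ⟨a, ha⟩ = 1 := by
      have hmem : (⟨f ⟨a, ha⟩, mem_alternatingGroup.2 (hsign _ ⟨_, rfl⟩)⟩ :
          alternatingGroup {i : Fin n // 3 ≤ i.val}) ∈ Q := ⟨_, rfl⟩
      rw [hbot, Subgroup.mem_bot] at hmem
      exact congrArg Subtype.val hmem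
    have h1 : (a : Perm (Fin n)) i = i := congrArg Subtype.val (Equiv.congr_fun hq ⟨i, not_lt.1 hi⟩)
    rw [h1]
    exact pow_apply_eq_self_of_apply_eq_self (not_ne_iff.1 fun e => hi ((tX_low h i).1 e)) _

/-- The centraliser in degree nine or ten of three disjoint three-cycles has order not divisible by two. -/
theorem card_centralizer_three (h10 : n = 9 ∨ n = 10) (hty : (a : Perm (Fin n)).cycleType = {3, 3, 3}) :
    ¬ 2 ∣ Nat.card (Subgroup.centralizer ({a} : Set (alternatingGroup (Fin n)))) := by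
  classical
  intro h2
  set K := Subgroup.centralizer ({(a : Perm (Fin n))} : Set (Perm (Fin n)))
  obtain ⟨b, hb⟩ := exists_prime_orderOf_dvd_card' (hp := ⟨Nat.prime_two⟩) 2 h2
  -- an odd element of the centraliser of the permutation
  have hcard : Nat.card K = 162 := by
    rw [nat_card_centralizer, hty, Fintype.card_fin]
    rcases h10 with rfl | rfl <;> decide
  let fs : K →* ℤˣ := sign.comp K.subtype
  have hker : 2 ∣ Nat.card fs.ker := by
    have hmem : (b.1.1 : Perm (Fin n)) ∈ K := Subgroup.mem_centralizer_singleton_iff.2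
      (congrArg Subtype.val (Subgroup.mem_centralizer_singleton_iff.1 b.2))
    have hk : (⟨_, hmem⟩ : K) ∈ fs.ker := mem_alternatingGroup.1 b.1.2
    have hob : orderOf (⟨_, hk⟩ : fs.ker) = 2 := by
      rw [← Subgroup.orderOf_coe, ← Subgroup.orderOf_coe]
      show orderOf (b.1.1 : Perm (Fin n)) = 2
      rw [Subgroup.orderOf_coe, Subgroup.orderOf_coe, hb]
    exact hob ▸ orderOf_dvd_natCard _
  have hsurj : fs.range = ⊤ := by
    refine eq_top_iff.2 fun u _ => ?_
    rcases Int.units_eq_one_or u with rfl | rfl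
    · exact one_mem _
    · by_contra hno
      have hall : ∀ p ∈ K, sign p = 1 := fun p hp => (Int.units_eq_one_or _).resolve_right fun e =>
        hno ⟨⟨p, hp⟩, e⟩
      have hle : K ≤ alternatingGroup (Fin n) := fun p hp => mem_alternatingGroup.2 (hall p hp)
      have hnine : ∃ σ : Perm (Fin 9), (swap (0 : Fin 9) 1 * swap 1 2 * (swap 3 4 * swap 4 5) *
          (swap 6 7 * swap 7 8)) * σ = σ * (swap 0 1 * swap 1 2 * (swap 3 4 * swap 4 5) * (swap 6 7 * swap 7 8)) ∧
          sign σ = -1 := ⟨swap 0 3 * swap 1 4 * swap 2 5, by decide +kernel, by decide⟩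
      obtain ⟨σ, hσ, hσs⟩ := hnine
      have h9 : 9 ≤ n := by omega
      set p₀ := (swap (0 : Fin 9) 1 * swap 1 2 * (swap 3 4 * swap 4 5) * (swap 6 7 * swap 7 8))
      have hp₀ : sign p₀ = 1 ∧ p₀.cycleType = {3, 3, 3} := ⟨by decide, by decide +kernel⟩
      obtain ⟨g, hg⟩ := isConj_iff.1 (isConj_iff_cycleType_eq.2 (show
        ((inc9 h9 ⟨p₀, mem_alternatingGroup.2 hp₀.1⟩ : alternatingGroup (Fin n)) : Perm (Fin n)).cycleType =
          (a : Perm (Fin n)).cycleType by rw [inc9_cycleType, hty]; exact hp₀.2))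
      have hσ' : g * σ.viaFintypeEmbedding (Fin.castLEEmb h9) * g⁻¹ ∈ K := by
        refine Subgroup.mem_centralizer_singleton_iff.2 ?_
        rw [← hg]
        have hcm : σ.viaFintypeEmbedding (Fin.castLEEmb h9) * p₀.viaFintypeEmbedding (Fin.castLEEmb h9) =
            p₀.viaFintypeEmbedding (Fin.castLEEmb h9) * σ.viaFintypeEmbedding (Fin.castLEEmb h9) := by
          refine Equiv.ext fun i => ?_
          by_cases hi : i ∈ Set.range (Fin.castLEEmb h9)
          · obtain ⟨j, rfl⟩ := hi
            simp only [Perm.mul_apply]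
            rw [viaFintypeEmbedding_apply_image, viaFintypeEmbedding_apply_image, viaFintypeEmbedding_apply_image,
              viaFintypeEmbedding_apply_image]
            exact congrArg _ (by rw [← Perm.mul_apply, ← Perm.mul_apply, hσ])
          · simp only [Perm.mul_apply, viaFintypeEmbedding_apply_notMem_range _ _ hi]
        show g * _ * g⁻¹ * (g * p₀.viaFintypeEmbedding (Fin.castLEEmb h9) * g⁻¹) =
          g * p₀.viaFintypeEmbedding (Fin.castLEEmb h9) * g⁻¹ * (g * _ * g⁻¹)
        calc _ = g * (σ.viaFintypeEmbedding (Fin.castLEEmb h9) * p₀.viaFintypeEmbedding (Fin.castLEEmb h9)) * g⁻¹ := by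
              group
          _ = _ := by rw [hcm]; group
      have := hall _ hσ'
      rw [map_mul, map_mul, map_inv, mul_inv_cancel_comm, viaFintypeEmbedding_sign, hσs] at this
      exact absurd this (by decide)
  have h1 := fs.ker.card_mul_index
  rw [Subgroup.index_ker, hsurj, Subgroup.card_top, hcard, Nat.card_eq_fintype_card (α := ℤˣ)] at h1
  rw [Fintype.card_units_int] at h1
  omega

end CfsgLib.CoverType
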