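import Cfsg.Agent.Lib.CoverType.OneClass
import Cfsg.Agent.Lib.CoverType.Perms

/-!
# The centraliser of a lifted three-cycle in degree nine or ten: its core and the elements commuting with a reflection
-/

set_option autoImplicit false
set_option maxRecDepth 100000

namespace CfsgLib.CoverType

open Equiv Equiv.Perm AltCover

variable {G : Type*} [Group G] {n : ℕ} {t : G}
  {π : Subgroup.centralizer ({t} : Set G) →* alternatingGroup (Fin n)}

/-- A lift of order three of the three-cycle, in degree nine or ten. -/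
structure Nine (t : G) (π : Subgroup.centralizer ({t} : Set G) →* alternatingGroup (Fin n)) (h9 : 9 ≤ n)
    (x : Subgroup.centralizer ({t} : Set G)) : Prop where
  cov : Cover π (tC t)
  ord : orderOf t = 2
  le10 : n ≤ 10
  cube : x ^ 3 = 1
  img : π x = tX h9

variable {h9 : 9 ≤ n} {x : Subgroup.centralizer ({t} : Set G)}

/-- The odd core of the centraliser, inside the whole group. -/
def coreW (x : G) : Subgroup G :=
  (Cfsg.oddCore (Subgroup.centralizer ({x} : Set G))).map (Subgroup.centralizer ({x} : Set G)).subtype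

theorem mem_coreW {x y : G} (hy : y ∈ coreW x) : Commute y x := by
  obtain ⟨k, -, rfl⟩ := hy
  exact Subgroup.mem_centralizer_singleton_iff.1 k.2

theorem odd_coreW [Finite G] (x : G) : Odd (Nat.card (coreW x)) := by
  rw [coreW, Subgroup.card_map_of_injective (Subgroup.subtype_injective _)]
  exact Cores.odd_card_oddCore

/-- An element sending `x` to itself or its inverse normalises the core. -/
theorem coreW_norm {x g y : G} (hg : g * x * g⁻¹ = x ∨ g * x * g⁻¹ = x⁻¹) (hy : y ∈ coreW x) :
    g * y * g⁻¹ ∈ coreW x := by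
  have hmem : ∀ a : G, (a * x * a⁻¹ = x ∨ a * x * a⁻¹ = x⁻¹) → ∀ k, Commute k x → Commute (a * k * a⁻¹) x := by
    intro a ha k hk
    rcases ha with e | e
    · have := hk.conj a
      rwa [e] at this
    · have := (hk.conj a)
      rw [e] at this
      simpa using this.inv_right
  have hg' : g⁻¹ * x * g⁻¹⁻¹ = x ∨ g⁻¹ * x * g⁻¹⁻¹ = x⁻¹ := by
    rcases hg with e | e
    · left
      conv_lhs => rw [← e]
      group
    · right
      have h1 : g * x⁻¹ * g⁻¹ = x := by rw [← conj_inv, e, inv_inv]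
      conv_lhs => rw [← h1]
      group
  let e : Subgroup.centralizer ({x} : Set G) ≃* Subgroup.centralizer ({x} : Set G) :=
    { toFun := fun k => ⟨g * k * g⁻¹, Subgroup.mem_centralizer_singleton_iff.2
        (hmem g hg k (Subgroup.mem_centralizer_singleton_iff.1 k.2)).eq⟩
      invFun := fun k => ⟨g⁻¹ * k * g⁻¹⁻¹, Subgroup.mem_centralizer_singleton_iff.2
        (hmem g⁻¹ hg' k (Subgroup.mem_centralizer_singleton_iff.1 k.2)).eq⟩
      left_inv := fun k => Subtype.ext (by simp [mul_assoc])
      right_inv := fun k => Subtype.ext (by simp [mul_assoc])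
      map_mul' := fun a b => Subtype.ext (by simp [mul_assoc]) }
  obtain ⟨k, hk, rfl⟩ := hy
  exact ⟨e k, (Cores.map_pPrimeCore_equiv (p := 2) e).le (Subgroup.mem_map_of_mem e.toMonoidHom hk), rfl⟩

/-- An element of order dividing two and three is trivial. -/
theorem eq_one_of_sq_cube {a : G} (h2 : a * a = 1) (h3 : a ^ 3 = 1) : a = 1 := by
  rw [pow_succ, pow_two, h2, one_mul] at h3
  exact h3

namespace Nine

variable (N : Nine t π h9 x)
include N

theorem hn : n = 9 ∨ n = 10 := by have := N.le10; omega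

theorem tt : t * t = 1 := Invol.mul_self_of_orderOf_two N.ord

theorem tinv : t⁻¹ = t := inv_eq_of_mul_eq_one_right N.tt

theorem tx : Commute (x : G) t := Subgroup.mem_centralizer_singleton_iff.1 x.2

theorem cubeG : (x : G) ^ 3 = 1 := congrArg Subtype.val N.cube

theorem comm_of_img {g : Subgroup.centralizer ({t} : Set G)} (hg : Commute (π g) (tX h9)) :
    Commute (g : G) x :=
  congrArg Subtype.val (commute_of_cube N.cov N.cube (g := g) (by rw [N.img, hg.eq, mul_inv_cancel_right])).eq

theorem img_comm {g : Subgroup.centralizer ({t} : Set G)} (hg : Commute (g : G) x) :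
    Commute (π g) (tX h9) := by
  rw [← N.img]
  exact (show Commute g x from Subtype.ext hg.eq).map π

/-- The involution is the only one commuting with itself and `x`. -/
theorem invol_eq {u : G} (hu : orderOf u = 2) (hut : Commute u t) (hux : Commute u x) : u = t := by
  by_contra hne
  let u' : Subgroup.centralizer ({t} : Set G) := ⟨u, Subgroup.mem_centralizer_singleton_iff.2 hut.eq⟩
  have hq := cycleType_invol N.cov (by omega) (by have := N.le10; omega) (x := u')
    (Subtype.ext (Invol.mul_self_of_orderOf_two hu))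
    (fun e => Invol.ne_one_of_orderOf_two hu (congrArg Subtype.val e)) (fun e => hne (congrArg Subtype.val e))
  exact not_quad_commute h9 N.le10 (N.img_comm (g := u') hux) hq

variable [Finite G]

/-- The elements of order three commuting with `x` and inverted by `t` lie in the core. -/
theorem mem_core_of_inverted {w : G} (hw : w ^ 3 = 1) (hwx : Commute w x) (hwt : t * w * t = w⁻¹) :
    w ∈ coreW (x : G) := by
  set K := Subgroup.centralizer ({(x : G)} : Set G) with hK
  let tK : K := ⟨t, Subgroup.mem_centralizer_singleton_iff.2 N.tx.symm.eq⟩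
  let wK : K := ⟨w, Subgroup.mem_centralizer_singleton_iff.2 hwx.eq⟩
  have hiso : Cfsg.IsIsolatedInvolution tK := by
    refine ⟨(Subgroup.orderOf_coe tK).symm.trans N.ord, fun g hg => Subtype.ext ?_⟩
    exact N.invol_eq ((Invol.orderOf_conj_eq (g : G) t).trans N.ord) (congrArg Subtype.val hg.eq).symm
      (Subgroup.mem_centralizer_singleton_iff.1 (g * tK * g⁻¹).2)
  refine ⟨tK * wK * tK⁻¹ * wK⁻¹, Invol.zstar hiso wK, ?_⟩
  show t * w * t⁻¹ * w⁻¹ = w
  rw [N.tinv, hwt, ← mul_inv_rev, inv_eq_iff_mul_eq_one, ← pow_two, ← pow_succ, hw]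

/-- The elements of the core commuting with `t` are powers of `x`. -/
theorem core_fix {y : G} (hy : y ∈ coreW (x : G)) (hyt : Commute y t) : y ∈ Subgroup.zpowers (x : G) := by
  set M := ((coreW (x : G)).comap (Subgroup.centralizer ({t} : Set G)).subtype).map π with hM
  have hoddC : Odd (Nat.card ((coreW (x : G)).comap (Subgroup.centralizer ({t} : Set G)).subtype)) :=
    Odd.of_dvd_nat (odd_coreW (x : G)) (Subgroup.card_dvd_of_injective
      ((Subgroup.centralizer ({t} : Set G)).subtype.subgroupComap (coreW (x : G))) fun u v huv =>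
        Subtype.ext (Subtype.ext (congrArg Subtype.val huv :)))
  have hle := odd_normal_le h9 (N := M) (Odd.of_dvd_nat hoddC (Subgroup.card_map_dvd _ _)) (by
      rintro _ ⟨a, ha, rfl⟩
      exact N.img_comm (mem_coreW ha)) (by
      rintro g hg _ ⟨a, ha, rfl⟩
      obtain ⟨g, rfl⟩ := N.cov.surj g
      have hgx := N.comm_of_img hg
      refine ⟨g * a * g⁻¹, coreW_norm (Or.inl ?_) ha, by rw [map_mul, map_mul, map_inv]⟩
      rw [hgx.eq, mul_inv_cancel_right])
  let y' : Subgroup.centralizer ({t} : Set G) := ⟨y, Subgroup.mem_centralizer_singleton_iff.2 hyt.eq⟩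
  obtain ⟨k, hk⟩ := Subgroup.mem_zpowers_iff.1 (hle ⟨y', hy, rfl⟩)
  rcases N.cov.eq_or (x := y') (y := x ^ k) (by rw [map_zpow, N.img, hk]) with e | e
  · exact ⟨k, (congrArg Subtype.val e).symm⟩
  · exfalso
    have e' : y = t * (x : G) ^ k := congrArg Subtype.val e
    have h3 : y ^ 3 ∈ coreW (x : G) := Subgroup.pow_mem _ hy 3
    have hx3 : ((x : G) ^ k) ^ 3 = 1 := by
      rw [← zpow_natCast, ← zpow_mul, mul_comm, zpow_mul, zpow_natCast, N.cubeG, one_zpow]
    rw [e', (N.tx.symm.zpow_right k).mul_pow, hx3, mul_one, pow_succ, pow_two, N.tt, one_mul] at h3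
    have hd : orderOf (⟨t, h3⟩ : coreW (x : G)) ∣ Nat.card (coreW (x : G)) := orderOf_dvd_natCard _
    rw [Subgroup.orderOf_mk, N.ord] at hd
    exact (Nat.not_even_iff_odd.2 (odd_coreW (x : G))) (even_iff_two_dvd.2 hd)

omit [Finite G] in
theorem zpow_cube {z : G} (hz : z ∈ Subgroup.zpowers (x : G)) : z ^ 3 = 1 := by
  obtain ⟨k, rfl⟩ := Subgroup.mem_zpowers_iff.1 hz
  rw [← zpow_natCast, ← zpow_mul, mul_comm, zpow_mul, zpow_natCast, N.cubeG, one_zpow]

omit [Finite G] in
theorem conj_t_mem {y : G} (hy : y ∈ coreW (x : G)) : t * y * t ∈ coreW (x : G) := by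
  have := coreW_norm (g := t) (Or.inl (by rw [N.tx.symm.eq, mul_inv_cancel_right])) hy
  rwa [N.tinv] at this

omit [Finite G] in
/-- The powers of `x` commute with the core and with `t`. -/
theorem zpow_comm {y z : G} (hy : y ∈ coreW (x : G)) (hz : z ∈ Subgroup.zpowers (x : G)) :
    Commute y z ∧ Commute t z := by
  obtain ⟨k, rfl⟩ := Subgroup.mem_zpowers_iff.1 hz
  exact ⟨(mem_coreW hy).zpow_right k, N.tx.symm.zpow_right k⟩

/-- The powers of `x` inside the core. -/
abbrev cen (_ : Nine t π h9 x) : Subgroup (coreW (x : G)) := (Subgroup.zpowers (x : G)).subgroupOf (coreW (x : G))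

/-- The quotient is abelian and inverted by `t`. -/
theorem core_mod : (∀ y ∈ coreW (x : G), y * (t * y * t) ∈ Subgroup.zpowers (x : G)) ∧
    ∀ a ∈ coreW (x : G), ∀ b ∈ coreW (x : G), (a * b)⁻¹ * (b * a) ∈ Subgroup.zpowers (x : G) := by
  haveI : N.cen.Normal := ⟨fun z hz a => by
    have hz' : (z : G) ∈ Subgroup.zpowers (x : G) := hz
    show (a : G) * z * (a : G)⁻¹ ∈ Subgroup.zpowers (x : G)
    rw [(N.zpow_comm a.2 hz').1.eq, mul_inv_cancel_right]
    exact hz'⟩
  let θ : coreW (x : G) →* coreW (x : G) :=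
    { toFun := fun y => ⟨t * y * t, N.conj_t_mem y.2⟩
      map_one' := Subtype.ext (by simp [N.tt])
      map_mul' := fun a b => Subtype.ext (by
        show t * ((a : G) * b) * t = t * a * t * (t * b * t)
        calc t * ((a : G) * b) * t = t * a * (t * t) * b * t := by rw [N.tt, mul_one, ← mul_assoc]
          _ = _ := by group) }
  have hθz : ∀ z ∈ N.cen, (θ z : G) = z := fun z hz => by
    have hz' : (z : G) ∈ Subgroup.zpowers (x : G) := hz
    show t * (z : G) * t = z
    rw [(N.zpow_comm z.2 hz').2.eq, mul_assoc, N.tt, mul_one]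
  let φ : coreW (x : G) ⧸ N.cen →* coreW (x : G) ⧸ N.cen := QuotientGroup.map _ _ θ fun z hz => by
    show (θ z : G) ∈ Subgroup.zpowers (x : G)
    rw [hθz z hz]; exact hz
  have hinv : Function.Involutive φ := fun q => by
    obtain ⟨y, rfl⟩ := QuotientGroup.mk_surjective q
    show (QuotientGroup.mk (θ (θ y)) : coreW (x : G) ⧸ N.cen) = QuotientGroup.mk y
    refine congrArg _ (Subtype.ext ?_)
    show t * (t * (y : G) * t) * t = y
    rw [show t * (t * (y : G) * t) * t = (t * t) * y * (t * t) by group, N.tt, one_mul, mul_one]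
  have hfix : MonoidHom.FixedPointFree φ := fun q hq => by
    obtain ⟨y, rfl⟩ := QuotientGroup.mk_surjective q
    have hq1 : (QuotientGroup.mk (θ y) : coreW (x : G) ⧸ N.cen) = QuotientGroup.mk y := hq
    have hq' : (θ y : G)⁻¹ * y ∈ Subgroup.zpowers (x : G) := (QuotientGroup.eq.1 hq1 :)
    set z := (θ y : G)⁻¹ * y with hz
    have hcz : Commute t z := (N.zpow_comm y.2 hq').2
    have h1 : t * (y : G) * t * z = y := by rw [hz]; exact mul_inv_cancel_left _ _
    have h2 : t * (y : G) * t = y * z := by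
      have h3 : t * (t * (y : G) * t * z) * t = t * (y : G) * t := by rw [h1]
      rw [← h3, show t * (t * (y : G) * t * z) * t = (t * t) * y * (t * z * t) by group, N.tt, one_mul, hcz.eq,
        mul_assoc z, N.tt, mul_one]
    rw [h2, mul_assoc, mul_eq_left] at h1
    have hz1 : z = 1 := eq_one_of_sq_cube h1 (N.zpow_cube hq')
    rw [hz1, mul_one] at h2
    refine (QuotientGroup.eq_one_iff y).2 (N.core_fix y.2 ?_)
    show (y : G) * t = t * y
    calc (y : G) * t = t * y * t * t := by rw [h2]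
      _ = t * y := by rw [mul_assoc, N.tt, mul_one]
  constructor
  · intro y hy
    have h1 := congrFun (MonoidHom.FixedPointFree.coe_eq_inv_of_involutive hfix hinv)
      (QuotientGroup.mk (⟨y, hy⟩ : coreW (x : G)))
    have h2 : (QuotientGroup.mk ((⟨y, hy⟩ : coreW (x : G)) * θ ⟨y, hy⟩) : coreW (x : G) ⧸ N.cen) = 1 := by
      rw [QuotientGroup.mk_mul]
      exact mul_eq_one_iff_inv_eq.2 h1.symm
    exact (QuotientGroup.eq_one_iff ((⟨y, hy⟩ : coreW (x : G)) * θ ⟨y, hy⟩)).1 h2
  · intro a ha b hb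
    have h := (MonoidHom.FixedPointFree.commute_all_of_involutive hfix hinv
      (QuotientGroup.mk (⟨a, ha⟩ : coreW (x : G))) (QuotientGroup.mk (⟨b, hb⟩ : coreW (x : G)))).eq
    rw [← QuotientGroup.mk_mul, ← QuotientGroup.mk_mul, QuotientGroup.eq] at h
    exact h

end Nine

/-- An involution centralising `t` and inverting `x`, normalised by two lifts of double transpositions. -/
structure Side (t x s i j : G) : Prop where
  ss : s * s = 1
  ne_one : s ≠ 1
  ne_t : s ≠ t
  st : Commute s t
  sx : s * x * s⁻¹ = x⁻¹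
  si : Commute i s
  sj : Commute j s
  ii : i * i = t
  jj : j * j = t
  kk : i⁻¹ * j * (i⁻¹ * j) = t
  ix : Commute i x
  jx : Commute j x

namespace Nine

variable (N : Nine t π h9 x) {s i j : G}
include N

theorem side_twist (S : Side t (x : G) s i j) : Side t (x : G) (t * s) i j where
  ss := by rw [mul_assoc, ← mul_assoc s t s, S.st.eq, mul_assoc t s s, S.ss, mul_one, N.tt]
  ne_one := fun e => S.ne_t (by rw [eq_inv_of_mul_eq_one_right e, N.tinv])
  ne_t := fun e => S.ne_one (mul_eq_left.1 e)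
  st := (Commute.refl t).mul_left S.st
  sx := by
    rw [mul_inv_rev, show t * s * (x : G) * (s⁻¹ * t⁻¹) = t * (s * x * s⁻¹) * t⁻¹ by group, S.sx,
      N.tx.symm.inv_right.eq, mul_inv_cancel_right]
  si := (S.ii ▸ (Commute.refl i).mul_right (Commute.refl i)).mul_right S.si
  sj := (S.jj ▸ (Commute.refl j).mul_right (Commute.refl j)).mul_right S.sj
  ii := S.ii
  jj := S.jj
  kk := S.kk
  ix := S.ix
  jx := S.jx

theorem zpow_fix (S : Side t (x : G) s i j) {z : G} (hz : z ∈ Subgroup.zpowers (x : G)) (hzs : Commute z s) :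
    z = 1 := by
  refine eq_one_of_sq_cube ?_ (N.zpow_cube hz)
  obtain ⟨k, hk⟩ := Subgroup.mem_zpowers_iff.1 hz
  have h1 : s * z * s⁻¹ = z⁻¹ := by rw [← hk, ← conj_zpow, S.sx, inv_zpow]
  rw [hzs.symm.eq, mul_inv_cancel_right] at h1
  exact eq_inv_iff_mul_eq_one.1 h1

/-- The automorphism given by `s` preserves the core. -/
theorem conj_s_mem (S : Side t (x : G) s i j) {y : G} (hy : y ∈ coreW (x : G)) :
    s * y * s ∈ coreW (x : G) := by
  have := coreW_norm (g := s) (Or.inr S.sx) hy
  rwa [inv_eq_of_mul_eq_one_right S.ss] at this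

variable [Finite G]

/-- Elements of the core fixed by `s` are inverted by `t`. -/
theorem inv_of_fix (S : Side t (x : G) s i j) {y : G} (hy : y ∈ coreW (x : G)) (hys : Commute y s) :
    t * y * t = y⁻¹ :=
  eq_inv_of_mul_eq_one_right (N.zpow_fix S (N.core_mod.1 y hy)
    (hys.mul_left ((S.st.symm.mul_left hys).mul_left S.st.symm)))

/-- The elements of the core fixed by `s`, of order dividing three, form a subgroup. -/
theorem exists_fixed (S : Side t (x : G) s i j) :
    ∃ A : Subgroup G, ∀ y, y ∈ A ↔ y ∈ coreW (x : G) ∧ Commute y s ∧ y ^ 3 = 1 := by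
  have hcomm : ∀ a b : G, a ∈ coreW (x : G) → Commute a s → b ∈ coreW (x : G) → Commute b s → Commute a b := by
    intro a b ha has hb hbs
    have h := N.inv_of_fix S (mul_mem ha hb) (has.mul_left hbs)
    rw [show t * (a * b) * t = t * a * (t * t) * b * t by rw [N.tt, mul_one, ← mul_assoc],
      show t * a * (t * t) * b * t = t * a * t * (t * b * t) by group, N.inv_of_fix S ha has,
      N.inv_of_fix S hb hbs, ← mul_inv_rev, inv_inj] at h
    exact h.symm
  refine ⟨{ carrier := {y | y ∈ coreW (x : G) ∧ Commute y s ∧ y ^ 3 = 1}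
            one_mem' := ⟨one_mem _, Commute.one_left s, one_pow 3⟩
            mul_mem' := ?_
            inv_mem' := ?_ }, fun y => Iff.rfl⟩
  · rintro a b ⟨ha, has, ha3⟩ ⟨hb, hbs, hb3⟩
    exact ⟨mul_mem ha hb, has.mul_left hbs, by rw [(hcomm a b ha has hb hbs).mul_pow, ha3, hb3, one_mul]⟩
  · rintro a ⟨ha, has, ha3⟩
    exact ⟨inv_mem ha, has.inv_left, by rw [inv_pow, ha3, inv_one]⟩

/-- A coset fixed by `s` contains a fixed element. -/
theorem exists_fixed_rep (S : Side t (x : G) s i j) {y : G} (hy : y ∈ coreW (x : G))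
    (hx : (x : G) ∈ coreW (x : G))
    (hy3 : y ^ 3 ∈ Subgroup.zpowers (x : G)) (hys : y⁻¹ * (s * y * s) ∈ Subgroup.zpowers (x : G)) :
    ∃ a, (a ∈ coreW (x : G) ∧ Commute a s ∧ a ^ 3 = 1) ∧ y⁻¹ * a ∈ Subgroup.zpowers (x : G) := by
  obtain ⟨k, hk⟩ := Subgroup.mem_zpowers_iff.1 hys
  have hsinv : s⁻¹ = s := inv_eq_of_mul_eq_one_right S.ss
  set a := y * (x : G) ^ (2 * k) with ha
  have hmem : a ∈ coreW (x : G) := mul_mem hy (Subgroup.zpow_mem _ hx _)
  have hfix : s * a * s⁻¹ = a := by
    rw [ha, show s * (y * (x : G) ^ (2 * k)) * s⁻¹ = s * y * s⁻¹ * (s * x * s⁻¹) ^ (2 * k) by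
      rw [conj_zpow]; group, S.sx, hsinv, show s * y * s = y * (x : G) ^ k by rw [hk]; group]
    rw [inv_zpow, ← zpow_neg, mul_assoc, ← zpow_add]
    have h3 : (x : G) ^ (3 : ℤ) = 1 := by rw [show (3 : ℤ) = ((3 : ℕ) : ℤ) from rfl, zpow_natCast, N.cubeG]
    rw [show (x : G) ^ (2 * k) = (x : G) ^ (k + -(2 * k)) * (x : G) ^ (3 * k) by
      rw [← zpow_add]; congr 1; ring, zpow_mul (x : G) 3 k, h3, one_zpow, mul_one]
  have hc : Commute a s := (mul_inv_eq_iff_eq_mul.1 hfix).symm
  have ha3 : a ^ 3 ∈ Subgroup.zpowers (x : G) := by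
    rw [ha, ((mem_coreW hy).zpow_right _).mul_pow]
    exact mul_mem hy3 (Subgroup.pow_mem _ (Subgroup.zpow_mem_zpowers _ _) 3)
  exact ⟨a, ⟨hmem, hc, N.zpow_fix S ha3 (hc.pow_left 3)⟩, 2 * k, by rw [ha]; group⟩

end Nine

end CfsgLib.CoverType
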