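import Cfsg.Agent.Lib.CoverType.NineCore
import Cfsg.Agent.Lib.Invol.Counting

/-!
# The fixed part of a reflection is elementary of order nine with one cycle type
-/

set_option autoImplicit false
set_option maxRecDepth 100000

namespace CfsgLib.CoverType

open Equiv Equiv.Perm AltCover

variable {G : Type*} [Group G] {n : ℕ}

/-- The nine-cycle. -/
def nine9 : alternatingGroup (Fin 9) := ⟨finRotate 9, mem_alternatingGroup.2 (by decide +kernel)⟩

/-- In degree nine or ten a Sylow three-subgroup is not of exponent three. -/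
theorem exponent_three_false (h : n = 9 ∨ n = 10) (H : Subgroup (alternatingGroup (Fin n)))
    (hc : Nat.card H = 81) (h3 : ∀ a ∈ H, a ^ 3 = 1) : False := by
  haveI : Fact (Nat.Prime 3) := ⟨Nat.prime_three⟩
  haveI : Nontrivial (Fin n) := Fin.nontrivial_iff_two_le.2 (by omega)
  have hcard : 2 * Nat.card (alternatingGroup (Fin n)) = n.factorial := by
    rw [two_mul_nat_card_alternatingGroup, Nat.card_perm, Nat.card_fin]
  have hsyl : ∀ P : Sylow 3 (alternatingGroup (Fin n)), Nat.card P ≤ 81 := by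
    intro P
    obtain ⟨k, hk⟩ := IsPGroup.iff_card.1 P.2
    have h1 : 3 ^ k ∣ n.factorial := by
      rw [← hcard, ← hk]
      exact (Subgroup.card_subgroup_dvd_card P.toSubgroup).mul_left 2
    by_contra h2
    rw [hk] at h2
    have h5 : 5 ≤ k := by
      by_contra h4
      exact h2 ((Nat.pow_le_pow_right (by norm_num) (by omega : k ≤ 4)).trans (by norm_num))
    have h6 : 3 ^ 5 ∣ n.factorial := (pow_dvd_pow 3 h5).trans h1
    rcases h with rfl | rfl <;> exact absurd h6 (by decide)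
  have hH : IsPGroup 3 H := IsPGroup.of_card (n := 4) (by rw [hc]; norm_num)
  obtain ⟨P, hP⟩ := hH.exists_le_sylow
  have hPH : H = (P : Subgroup (alternatingGroup (Fin n))) := Subgroup.eq_of_le_of_card_ge hP (hc ▸ hsyl P)
  set c := inc9 (show 9 ≤ n by omega) nine9 with hc'
  have h9 : c ^ 9 = 1 := by rw [hc', ← map_pow, show nine9 ^ 9 = 1 by decide +kernel, map_one]
  have hcyc : IsPGroup 3 (Subgroup.zpowers c) := by
    intro ⟨y, hy⟩
    obtain ⟨m, rfl⟩ := Subgroup.mem_zpowers_iff.1 hy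
    refine ⟨2, Subtype.ext ?_⟩
    show (c ^ m) ^ (3 ^ 2 : ℕ) = 1
    rw [← zpow_natCast (c ^ m), ← zpow_mul, mul_comm, zpow_mul, zpow_natCast]
    norm_num [h9]
  obtain ⟨Q, hQ⟩ := hcyc.exists_le_sylow
  obtain ⟨g, hg⟩ := MulAction.exists_smul_eq (alternatingGroup (Fin n)) P Q
  have hmem : c ∈ (g • P : Sylow 3 (alternatingGroup (Fin n))).toSubgroup := hg ▸ hQ (Subgroup.mem_zpowers c)
  obtain ⟨a, ha, he⟩ := hmem
  have hc3 : c ^ 3 = 1 := by
    rw [← he]
    show ((MulAut.conj g) a) ^ 3 = 1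
    rw [← map_pow, h3 a (hPH ▸ ha), map_one]
  rw [hc', ← map_pow, ← map_one (inc9 (show 9 ≤ n by omega))] at hc3
  exact absurd (inc9_injective _ hc3) (by decide +kernel)

variable {t : G} {π : Subgroup.centralizer ({t} : Set G) →* alternatingGroup (Fin n)} {h9 : 9 ≤ n}
  {x : Subgroup.centralizer ({t} : Set G)}

namespace Nine

variable (N : Nine t π h9 x) [Finite G] {s i j : G} (S : Side t (x : G) s i j) {A : Subgroup G}
  (hA : ∀ y, y ∈ A ↔ y ∈ coreW (x : G) ∧ Commute y s ∧ y ^ 3 = 1)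
include N S hA

theorem conj_mem_fixed {g : G} (hgx : Commute g (x : G)) (hgs : Commute g s) {y : G} (hy : y ∈ A) :
    g * y * g⁻¹ ∈ A := by
  obtain ⟨h1, h2, h3⟩ := (hA y).1 hy
  refine (hA _).2 ⟨coreW_norm (Or.inl (by rw [hgx.eq, mul_inv_cancel_right])) h1, ?_, by
    rw [conj_pow, h3, mul_one, mul_inv_cancel]⟩
  have := h2.conj g
  rwa [hgs.eq, mul_inv_cancel_right] at this

theorem t_inverts {y : G} (hy : y ∈ A) : t * y * t = y⁻¹ := N.inv_of_fix S ((hA y).1 hy).1 ((hA y).1 hy).2.1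

theorem eq_one_of_inv_eq {y : G} (hy : y ∈ A) (h : y⁻¹ = y) : y = 1 :=
  eq_one_of_sq_cube (inv_eq_iff_mul_eq_one.1 h) ((hA y).1 hy).2.2

/-- A square root of `t` moves each nontrivial fixed element off its cyclic group. -/
theorem sqrt_moves {g : G} (hg : g * g = t) {y : G} (hy : y ∈ A) (h1 : y ≠ 1) :
    g * y * g⁻¹ ≠ y ∧ g * y * g⁻¹ ≠ y⁻¹ := by
  have key : g * (g * y * g⁻¹) * g⁻¹ = y⁻¹ := by
    rw [show g * (g * y * g⁻¹) * g⁻¹ = (g * g) * y * (g * g)⁻¹ by group, hg, N.tinv, N.t_inverts S hA hy]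
  constructor
  · intro e
    rw [e, e] at key
    exact h1 (N.eq_one_of_inv_eq S hA hy key.symm)
  · intro e
    rw [e, ← conj_inv, e, inv_inv] at key
    exact h1 (N.eq_one_of_inv_eq S hA hy key.symm)

/-- The transported fixed part and its image. -/
theorem exists_image (hcl : ∀ u : G, orderOf u = 2 → IsConj u t) :
    ∃ ψ : A →* alternatingGroup (Fin n), Function.Injective ψ ∧
      (∀ y : A, ∃ k : Subgroup.centralizer ({t} : Set G), IsConj (y : G) k ∧ π k = ψ y) ∧
      ∀ g, Commute g (x : G) → Commute g s → ∀ y y' : A, (y' : G) = g * y * g⁻¹ →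
        (ψ y' : Perm (Fin n)).cycleType = (ψ y : Perm (Fin n)).cycleType := by
  obtain ⟨c, hc⟩ := isConj_iff.1 (hcl s (orderOf_eq_prime (hp := ⟨Nat.prime_two⟩) (by rw [pow_two, S.ss]) S.ne_one))
  have hmem : ∀ y : G, Commute y s → c * y * c⁻¹ ∈ Subgroup.centralizer ({t} : Set G) := fun y hy =>
    Subgroup.mem_centralizer_singleton_iff.2 (by
      have := hy.conj c
      rw [hc] at this
      exact this.eq)
  let e : A →* Subgroup.centralizer ({t} : Set G) :=
    { toFun := fun y => ⟨c * y * c⁻¹, hmem _ ((hA y).1 y.2).2.1⟩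
      map_one' := Subtype.ext (by simp)
      map_mul' := fun a b => Subtype.ext (by simp [mul_assoc]) }
  refine ⟨π.comp e, ?_, fun y => ⟨e y, isConj_iff.2 ⟨c, rfl⟩, rfl⟩, ?_⟩
  · refine (injective_iff_map_eq_one _).2 fun y hy => ?_
    rcases (N.cov.ker (e y)).1 hy with h | h
    · have h' : c * (y : G) * c⁻¹ = 1 := congrArg Subtype.val h
      exact Subtype.ext (conj_eq_one_iff.1 h')
    · exfalso
      have h' : c * (y : G) * c⁻¹ = t := congrArg Subtype.val h
      have h3 : (c * (y : G) * c⁻¹) ^ 3 = 1 := by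
        rw [conj_pow, ((hA y).1 y.2).2.2, mul_one, mul_inv_cancel]
      rw [h'] at h3
      exact Invol.ne_one_of_orderOf_two N.ord (eq_one_of_sq_cube N.tt h3)
  · intro g _ hgs y y' he
    have h1 : e y' = ⟨c * g * c⁻¹, hmem g hgs⟩ * e y * (⟨c * g * c⁻¹, hmem g hgs⟩)⁻¹ := Subtype.ext (by
      show c * (y' : G) * c⁻¹ = c * g * c⁻¹ * (c * y * c⁻¹) * (c * g * c⁻¹)⁻¹
      rw [he]; group)
    show (π (e y') : Perm (Fin n)).cycleType = _
    rw [h1, map_mul, map_mul, map_inv, Subgroup.coe_mul, Subgroup.coe_mul, InvMemClass.coe_inv, cycleType_conj]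
    rfl

/-- The fixed part has order one or nine. -/
theorem card_fixed (hcl : ∀ u : G, orderOf u = 2 → IsConj u t) : Nat.card A = 1 ∨ Nat.card A = 9 := by
  classical
  haveI : Fact (Nat.Prime 3) := ⟨Nat.prime_three⟩
  obtain ⟨ψ, hψ, -, -⟩ := N.exists_image S hA hcl
  have h3 : ∀ y : A, y ^ 3 = 1 := fun y => Subtype.ext ((hA y).1 y.2).2.2
  obtain ⟨k, hk⟩ := IsPGroup.iff_card.1 (fun y => ⟨1, by rw [pow_one]; exact h3 y⟩ : IsPGroup 3 A)
  haveI : Nontrivial (Fin n) := Fin.nontrivial_iff_two_le.2 (by omega)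
  have h1 : 3 ^ k ∣ n.factorial := by
    have := (hk ▸ Subgroup.card_dvd_of_injective ψ hψ).mul_left 2
    rwa [two_mul_nat_card_alternatingGroup, Nat.card_perm, Nat.card_fin] at this
  have hk4 : k ≤ 4 := by
    by_contra h4
    have h6 : 3 ^ 5 ∣ n.factorial := (pow_dvd_pow 3 (by omega : 5 ≤ k)).trans h1
    rcases N.hn with rfl | rfl <;> exact absurd h6 (by decide)
  have hk3 : k ≠ 4 := by
    rintro rfl
    refine exponent_three_false N.hn ψ.range ?_ ?_
    · rw [← Nat.card_congr (MonoidHom.ofInjective hψ).toEquiv, hk]; norm_num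
    · rintro _ ⟨y, rfl⟩
      rw [← map_pow, h3, map_one]
  -- inversion is the square of conjugation by a root of `t`
  letI : Fintype A := Fintype.ofFinite A
  let e : Perm A :=
    { toFun := fun y => ⟨i * y * i⁻¹, N.conj_mem_fixed S hA S.ix S.si y.2⟩
      invFun := fun y => ⟨i⁻¹ * y * i⁻¹⁻¹, N.conj_mem_fixed S hA S.ix.inv_left S.si.inv_left y.2⟩
      left_inv := fun y => Subtype.ext (by simp [mul_assoc])
      right_inv := fun y => Subtype.ext (by simp [mul_assoc]) }
  have he : e * e = Equiv.inv A := Equiv.ext fun y => Subtype.ext (by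
    show i * (i * (y : G) * i⁻¹) * i⁻¹ = (y : G)⁻¹
    rw [show i * (i * (y : G) * i⁻¹) * i⁻¹ = (i * i) * y * (i * i)⁻¹ by group, S.ii, N.tinv,
      N.t_inverts S hA y.2])
  have hsgn : sign (Equiv.inv A) = 1 := by rw [← he, map_mul, Int.units_mul_self]
  have hsupp : (Equiv.inv A).support = Finset.univ.erase 1 := by
    ext y
    rw [mem_support, Finset.mem_erase]
    refine ⟨fun h => ⟨fun e => h (by rw [e]; exact inv_one), Finset.mem_univ _⟩, fun h e => h.1 ?_⟩
    exact Subtype.ext (N.eq_one_of_inv_eq S hA y.2 (congrArg Subtype.val e))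
  have hsq : (Equiv.inv A) ^ 2 = 1 := Equiv.ext fun y => by
    show (y⁻¹)⁻¹ = y
    exact inv_inv y
  haveI : Fact (Nat.Prime 2) := ⟨Nat.prime_two⟩
  have hct := Multiset.eq_replicate_card.2 (pow_prime_eq_one_iff.1 hsq)
  have hsum := sum_cycleType (Equiv.inv A)
  rw [sign_of_cycleType, hsum, neg_one_pow_eq_one_iff_even (by decide)] at hsgn
  rw [hct, Multiset.sum_replicate, smul_eq_mul, hsupp, Finset.card_erase_of_mem (Finset.mem_univ _),
    Finset.card_univ, ← Nat.card_eq_fintype_card, hk] at hsum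
  rw [hsupp, Finset.card_erase_of_mem (Finset.mem_univ _), Finset.card_univ, ← Nat.card_eq_fintype_card, hk] at hsgn
  obtain ⟨r, hr⟩ := hsgn
  rw [hk]
  interval_cases k
  · exact Or.inl rfl
  · omega
  · exact Or.inr rfl
  · omega
  · exact absurd rfl hk3

/-- Every nontrivial fixed element is conjugate to a lift of three disjoint three-cycles. -/
theorem type_fixed (hcl : ∀ u : G, orderOf u = 2 → IsConj u t) (h9A : Nat.card A = 9) {y : G} (hy : y ∈ A)
    (hy1 : y ≠ 1) :
    ∃ k : Subgroup.centralizer ({t} : Set G), IsConj y k ∧ (π k : Perm (Fin n)).cycleType = {3, 3, 3} := by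
  classical
  obtain ⟨ψ, hψ, hk, hconj⟩ := N.exists_image S hA hcl
  letI : Fintype A := Fintype.ofFinite A
  set y₀ : A := ⟨y, hy⟩ with hy₀
  have hy01 : y₀ ≠ 1 := fun e => hy1 (congrArg Subtype.val e)
  let τ : A → Multiset ℕ := fun z => (ψ z : Perm (Fin n)).cycleType
  -- four roots in distinct classes
  let h : Fin 4 → G := ![1, i, j, i⁻¹ * j]
  have hh : ∀ a, Commute (h a) (x : G) ∧ Commute (h a) s := by
    intro a
    fin_cases a
    · exact ⟨Commute.one_left _, Commute.one_left _⟩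
    · exact ⟨S.ix, S.si⟩
    · exact ⟨S.jx, S.sj⟩
    · exact ⟨S.ix.inv_left.mul_left S.jx, S.si.inv_left.mul_left S.sj⟩
  have htinv : ∀ g : G, g * g = t → g⁻¹ * g⁻¹ = t := fun g hg => by rw [← mul_inv_rev, hg, N.tinv]
  have hroot : ∀ a b, a ≠ b → (h b)⁻¹ * h a * ((h b)⁻¹ * h a) = t := by
    have key : ∀ a b, a < b → (h a)⁻¹ * h b * ((h a)⁻¹ * h b) = t := by
      have hti : Commute t i := S.ii ▸ (Commute.refl i).mul_left (Commute.refl i)
      have htj : Commute t j := S.jj ▸ (Commute.refl j).mul_left (Commute.refl j)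
      intro a b hab
      fin_cases a <;> fin_cases b <;> first | (exact absurd hab (by decide)) | skip
      · show (1 : G)⁻¹ * i * ((1 : G)⁻¹ * i) = t
        rw [inv_one, one_mul, S.ii]
      · show (1 : G)⁻¹ * j * ((1 : G)⁻¹ * j) = t
        rw [inv_one, one_mul, S.jj]
      · show (1 : G)⁻¹ * (i⁻¹ * j) * ((1 : G)⁻¹ * (i⁻¹ * j)) = t
        rw [inv_one, one_mul, S.kk]
      · show i⁻¹ * j * (i⁻¹ * j) = t
        exact S.kk
      · show i⁻¹ * (i⁻¹ * j) * (i⁻¹ * (i⁻¹ * j)) = t
        rw [← mul_assoc i⁻¹ i⁻¹ j, htinv i S.ii, show t * j * (t * j) = t * (j * t) * j by group, ← htj.eq,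
          show t * (t * j) * j = (t * t) * (j * j) by group, N.tt, one_mul, S.jj]
      · show j⁻¹ * (i⁻¹ * j) * (j⁻¹ * (i⁻¹ * j)) = t
        rw [show j⁻¹ * (i⁻¹ * j) * (j⁻¹ * (i⁻¹ * j)) = j⁻¹ * (i⁻¹ * i⁻¹) * j by group, htinv i S.ii,
          mul_assoc, htj.eq, inv_mul_cancel_left]
    intro a b hab
    rcases lt_or_gt_of_ne hab with e | e
    · have h1 := htinv _ (key a b e)
      rwa [mul_inv_rev, inv_inv] at h1
    · exact key b a e
  let f : Fin 4 × Bool → A := fun p => ⟨h p.1 * cond p.2 y y⁻¹ * (h p.1)⁻¹,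
    N.conj_mem_fixed S hA (hh p.1).1 (hh p.1).2 (by cases p.2 <;> simp [hy])⟩
  have hne : ∀ e : Bool, cond e y y⁻¹ ≠ 1 ∧ cond e y y⁻¹ ∈ A := fun e => by cases e <;> simp [hy, hy1]
  have hf : Function.Injective f := by
    rintro ⟨a, e⟩ ⟨b, e'⟩ hab
    have h1 : h a * cond e y y⁻¹ * (h a)⁻¹ = h b * cond e' y y⁻¹ * (h b)⁻¹ := congrArg Subtype.val hab
    by_cases hab' : a = b
    · subst hab'
      rw [mul_left_inj, mul_right_inj] at h1
      congr 1
      cases e <;> cases e' <;> simp only [cond_true, cond_false] at h1 ⊢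
      · exact absurd (N.eq_one_of_inv_eq S hA hy h1) hy1
      · exact absurd (N.eq_one_of_inv_eq S hA hy h1.symm) hy1
    · exfalso
      have h2 : (h b)⁻¹ * h a * cond e y y⁻¹ * ((h b)⁻¹ * h a)⁻¹ = cond e' y y⁻¹ := by
        rw [show (h b)⁻¹ * h a * cond e y y⁻¹ * ((h b)⁻¹ * h a)⁻¹ =
          (h b)⁻¹ * (h a * cond e y y⁻¹ * (h a)⁻¹) * h b by group, h1]
        group
      obtain ⟨m1, m2⟩ := N.sqrt_moves S hA (hroot a b hab') (hne e).2 (hne e).1
      cases e <;> cases e' <;> simp only [cond_true, cond_false, inv_inv] at h2 m1 m2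
      · exact m1 h2
      · exact m2 h2
      · exact m2 h2
      · exact m1 h2
  have himg : Finset.univ.image f = Finset.univ.erase 1 := by
    refine Finset.eq_of_subset_of_card_le ?_ ?_
    · intro z hz
      obtain ⟨p, -, rfl⟩ := Finset.mem_image.1 hz
      exact Finset.mem_erase.2 ⟨fun e => (hne p.2).1 (conj_eq_one_iff.1 (congrArg Subtype.val e :)), Finset.mem_univ _⟩
    · rw [Finset.card_erase_of_mem (Finset.mem_univ _), Finset.card_image_of_injective _ hf, Finset.card_univ,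
        Finset.card_univ, ← Nat.card_eq_fintype_card, h9A, Fintype.card_prod, Fintype.card_fin, Fintype.card_bool]
  have hall : ∀ z : A, z ≠ 1 → τ z = τ y₀ := by
    intro z hz
    obtain ⟨⟨a, e⟩, -, rfl⟩ := Finset.mem_image.1 (himg.symm ▸ Finset.mem_erase.2 ⟨hz, Finset.mem_univ z⟩)
    cases e
    · refine (hconj (h a) (hh a).1 (hh a).2 y₀⁻¹ _ rfl).trans ?_
      rw [map_inv, InvMemClass.coe_inv, cycleType_inv]
    · exact hconj (h a) (hh a).1 (hh a).2 y₀ _ rfl
  have h3 : ∀ z : A, z ^ 3 = 1 := fun z => Subtype.ext ((hA z).1 z.2).2.2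
  haveI : Fact (Nat.Prime 3) := ⟨Nat.prime_three⟩
  have hct : τ y₀ = Multiset.replicate (τ y₀).card 3 := Multiset.eq_replicate_card.2 (pow_prime_eq_one_iff.1 (by
    rw [← SubmonoidClass.coe_pow, ← map_pow, h3, map_one]; rfl))
  set m := (τ y₀).card with hm
  letI : MulAction A (Fin n) := MulAction.compHom _ ((alternatingGroup (Fin n)).subtype.comp ψ)
  letI : Fintype (MulAction.orbitRel.Quotient A (Fin n)) := Fintype.ofFinite _
  have hsupp : ∀ z : A, Fintype.card (MulAction.fixedBy (Fin n) z) = n - (τ z).sum := by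
    intro z
    rw [sum_cycleType]
    rw [show Fintype.card (MulAction.fixedBy (Fin n) z) =
      Fintype.card {a : Fin n // a ∉ (ψ z : Perm (Fin n)).support} from
      Fintype.card_congr (Equiv.subtypeEquivRight fun a => by rw [notMem_support]; rfl),
      Fintype.card_subtype_compl, Fintype.card_coe, Fintype.card_fin]
  have hB : (∑ z : A, Fintype.card (MulAction.fixedBy (Fin n) z)) =
      Fintype.card (MulAction.orbitRel.Quotient A (Fin n)) * Fintype.card A :=
    MulAction.sum_card_fixedBy_eq_card_orbits_mul_card_group A (Fin n)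
  have hA9 : Fintype.card A = 9 := by rw [← Nat.card_eq_fintype_card, h9A]
  simp only [hsupp] at hB
  rw [← Finset.add_sum_erase _ _ (Finset.mem_univ (1 : A)),
    Finset.sum_congr rfl (fun z hz => by rw [hall z (Finset.mem_erase.1 hz).1] :
      ∀ z ∈ Finset.univ.erase (1 : A), n - (τ z).sum = n - (τ y₀).sum),
    Finset.sum_const, Finset.card_erase_of_mem (Finset.mem_univ _), Finset.card_univ, hA9, hct,
    Multiset.sum_replicate, smul_eq_mul, smul_eq_mul] at hB
  have h0 : (τ 1).sum = 0 := by simp [τ]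
  rw [h0] at hB
  have hm1 : 1 ≤ m := by
    rw [Nat.one_le_iff_ne_zero, hm, Ne, card_cycleType_eq_zero]
    intro e
    exact hy01 (hψ (by rw [map_one]; exact Subtype.ext e))
  have hle : m * 3 ≤ n := by
    have := sum_cycleType (ψ y₀ : Perm (Fin n))
    rw [show (ψ y₀ : Perm (Fin n)).cycleType = Multiset.replicate m 3 from hct, Multiset.sum_replicate,
      smul_eq_mul] at this
    exact this.le.trans (by simpa using Finset.card_le_univ (ψ y₀ : Perm (Fin n)).support)
  obtain ⟨k, hk1, hk2⟩ := hk y₀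
  refine ⟨k, hk1, ?_⟩
  rw [hk2, show (ψ y₀ : Perm (Fin n)).cycleType = Multiset.replicate m 3 from hct, show m = 3 by
    have := N.le10; omega]
  rfl

end Nine

end CfsgLib.CoverType
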