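import Cfsg.Agent.Lib.CoverType.Basic
import Cfsg.Agent.Lib.Invol.ZStarFinal
import Cfsg.Agent.Lib.Invol.Counting
import Cfsg.Agent.Lib.Cores.Basic

/-!
# Lifts in the cover, and one class of involutions in degree at most ten
-/

set_option autoImplicit false
set_option maxRecDepth 100000

namespace CfsgLib.CoverType

open Equiv Equiv.Perm AltCover

variable {n : ℕ}

section

variable {C : Type*} [Group C] {π : C →* alternatingGroup (Fin n)} {z : C}

theorem exists_cube_lift (h : Cover π z) {a : alternatingGroup (Fin n)} (ha : a ^ 3 = 1) :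
    ∃ y, π y = a ∧ y ^ 3 = 1 := by
  obtain ⟨y, hy⟩ := h.surj a
  rcases (h.ker (y ^ 3)).1 (by rw [map_pow, hy, ha]) with e | e
  · exact ⟨y, hy, e⟩
  · refine ⟨z * y, by rw [map_mul, h.map_z, one_mul, hy], ?_⟩
    rw [(show Commute z y from (h.central y).symm).mul_pow, e, pow_succ z 2, pow_two, h.sq_z, one_mul, h.sq_z]

theorem eq_of_cube (h : Cover π z) {x y : C} (hx : x ^ 3 = 1) (hy : y ^ 3 = 1) (he : π x = π y) : x = y := by
  rcases h.eq_or he with e | e
  · exact e
  · exfalso
    rw [e, (show Commute z y from (h.central y).symm).mul_pow, hy, mul_one, pow_succ z 2, pow_two, h.sq_z,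
      one_mul] at hx
    exact h.zne hx

theorem conj_eq_of_cube (h : Cover π z) {x y g : C} (hx : x ^ 3 = 1) (hy : y ^ 3 = 1)
    (hg : π g * π x * (π g)⁻¹ = π y) : g * x * g⁻¹ = y :=
  eq_of_cube h (by rw [conj_pow, hx, mul_one, mul_inv_cancel]) hy (by rw [map_mul, map_mul, map_inv, hg])

theorem commute_of_cube (h : Cover π z) {x g : C} (hx : x ^ 3 = 1) (hg : π g * π x * (π g)⁻¹ = π x) :
    Commute g x :=
  mul_inv_eq_iff_eq_mul.1 (conj_eq_of_cube h hx hx hg)

/-- Lifts of two elements commute when one of them splits into three-cycles commuting with the other. -/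
theorem commute_of_factors (h : Cover π z) {a b : C} {u v : alternatingGroup (Fin n)} (hu : u ^ 3 = 1)
    (hv : v ^ 3 = 1) (hb : π b = u * v) (hau : π a * u * (π a)⁻¹ = u) (hav : π a * v * (π a)⁻¹ = v) :
    Commute a b := by
  obtain ⟨y, hy, hy3⟩ := exists_cube_lift h hu
  obtain ⟨w, hw, hw3⟩ := exists_cube_lift h hv
  have h1 : Commute a y := commute_of_cube h hy3 (by rw [hy, hau])
  have h2 : Commute a w := commute_of_cube h hw3 (by rw [hw, hav])
  rcases h.eq_or (x := b) (y := y * w) (by rw [map_mul, hy, hw, hb]) with e | e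
  · exact e ▸ h1.mul_right h2
  · exact e ▸ (show Commute a z from h.central a).mul_right (h1.mul_right h2)

theorem cycleType_invol (h : Cover π z) (hn : 5 ≤ n) (h11 : n ≤ 11) {x : C} (hx2 : x * x = 1) (hx1 : x ≠ 1)
    (hxz : x ≠ z) : (π x : Perm (Fin n)).cycleType = R 4 := by
  have hne : π x ≠ 1 := fun e => ((h.ker x).1 e).elim hx1 hxz
  have ho : orderOf ((π x : Perm (Fin n))) = 2 := by
    rw [Subgroup.orderOf_coe]
    exact orderOf_eq_prime (by rw [pow_two, ← map_mul, hx2, map_one]) hne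
  obtain ⟨m, hm⟩ := cycleType_prime_order (σ := (π x : Perm (Fin n))) (by rw [ho]; exact Nat.prime_two)
  rw [ho] at hm
  have hsum : ((π x : Perm (Fin n)).cycleType).sum ≤ n := by
    rw [sum_cycleType]
    exact le_trans (Finset.card_le_univ _) (le_of_eq (Fintype.card_fin n))
  rw [hm, Multiset.sum_replicate, smul_eq_mul] at hsum
  have hsgn : sign (π x : Perm (Fin n)) = 1 := (π x).2
  rw [sign_of_cycleType, hm, Multiset.sum_replicate, Multiset.card_replicate, smul_eq_mul] at hsgn
  have hm4 : m ≤ 4 := by omega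
  interval_cases m
  · exact absurd hsgn (by decide)
  · exfalso
    have h2 := h.dt_sq hn (x := x) hm
    rw [hx2] at h2
    exact h.zne h2.symm
  · exact absurd hsgn (by decide)
  · rw [hm]
  · exact absurd hsgn (by decide)

theorem invol_conj (h : Cover π z) (hn : 5 ≤ n) (h11 : n ≤ 11) {x y : C} (hx2 : x * x = 1) (hx1 : x ≠ 1)
    (hxz : x ≠ z) (hy2 : y * y = 1) (hy1 : y ≠ 1) (hyz : y ≠ z) : ∃ c, c * x * c⁻¹ = y := by
  have hx := cycleType_invol h hn h11 hx2 hx1 hxz
  have hy := cycleType_invol h hn h11 hy2 hy1 hyz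
  obtain ⟨c, hc⟩ := exists_even_conj (ξ := (π x : Perm (Fin n))) (η := (π y : Perm (Fin n)))
    (by rw [hy, hx]) (by rw [hx]; simp)
  obtain ⟨c, rfl⟩ := h.surj c
  rcases h.eq_or (x := y) (y := c * x * c⁻¹) (by
    rw [map_mul, map_mul, map_inv]; exact Subtype.ext hc.symm) with e | e
  · exact ⟨c, e.symm⟩
  · obtain ⟨k, hk⟩ := h.exists_anti hn (x := c * x * c⁻¹) (by
      rw [map_mul, map_mul, map_inv]
      show 2 ≤ ((π c : Perm (Fin n)) * (π x : Perm (Fin n)) * (π c : Perm (Fin n))⁻¹).cycleType.count 2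
      rw [cycleType_conj, hx]; simp)
    exact ⟨k * c, by rw [e, ← hk]; group⟩

end

section

variable {G : Type*} [Group G] [Finite G] {t : G}
  {π : Subgroup.centralizer ({t} : Set G) →* alternatingGroup (Fin n)}

/-- One class of involutions. -/
theorem one_class [IsSimpleGroup G] (hπ : Cover π (tC t)) (hn : 5 ≤ n) (h11 : n ≤ 11) (ht : orderOf t = 2)
    (hnc : t ∉ Subgroup.center G) : ∀ u : G, orderOf u = 2 → IsConj u t := by
  have hm : ∀ v : G, Commute v t → v ∈ Subgroup.centralizer ({t} : Set G) := fun v hv =>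
    Subgroup.mem_centralizer_singleton_iff.2 hv.eq
  -- a conjugate of `t` other than `t` commutes with it
  obtain ⟨g, hg, hgne⟩ : ∃ g, Commute t (g * t * g⁻¹) ∧ g * t * g⁻¹ ≠ t := by
    by_contra hno
    push Not at hno
    refine hnc (Invol.zstar_center ⟨ht, fun g hg => hno g hg⟩ ?_)
    rcases (inferInstance : (Cfsg.oddCore G).Normal).eq_bot_or_eq_top with e | e
    · exact e
    · exfalso
      have h1 : Odd (Nat.card (Cfsg.oddCore G)) := Cores.odd_card_oddCore
      rw [e, Subgroup.card_top] at h1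
      exact (Nat.not_even_iff_odd.2 h1) (even_iff_two_dvd.2 (ht ▸ orderOf_dvd_natCard t))
  have hcen : ∀ v : G, orderOf v = 2 → Commute v t → IsConj v t := by
    intro v hv hvt
    by_cases hvt' : v = t
    · exact hvt' ▸ IsConj.refl _
    have hw : orderOf (g * t * g⁻¹) = 2 := (Invol.orderOf_conj_eq g t).trans ht
    have hne : ∀ v : G, orderOf v = 2 → v * v = 1 ∧ v ≠ 1 := fun v hv =>
      ⟨Invol.mul_self_of_orderOf_two hv, Invol.ne_one_of_orderOf_two hv⟩
    obtain ⟨c, hc⟩ := invol_conj hπ hn h11 (x := (⟨v, hm v hvt⟩ : Subgroup.centralizer ({t} : Set G)))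
      (y := ⟨g * t * g⁻¹, hm _ hg.symm⟩) (Subtype.ext (hne v hv).1) (fun e => (hne v hv).2 (congrArg Subtype.val e))
      (fun e => hvt' (congrArg Subtype.val e)) (Subtype.ext (hne _ hw).1)
      (fun e => (hne _ hw).2 (congrArg Subtype.val e)) (fun e => hgne (congrArg Subtype.val e))
    have h1 : (c : G) * v * (c : G)⁻¹ = g * t * g⁻¹ := congrArg Subtype.val hc
    exact (isConj_iff.2 ⟨(c : G), h1⟩).trans (isConj_iff.2 ⟨g, rfl⟩).symm
  intro u hu
  by_cases h : IsConj u t
  · exact h
  obtain ⟨w, hw, hwu, hwt, -⟩ := Invol.exists_common_involution hu ht h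
  obtain ⟨d, hd⟩ := isConj_iff.1 (hcen w hw hwt)
  have hu' : orderOf (d * u * d⁻¹) = 2 := (Invol.orderOf_conj_eq d u).trans hu
  refine (isConj_iff.2 ⟨d, rfl⟩ : IsConj u (d * u * d⁻¹)).trans (hcen _ hu' ?_)
  rw [← hd]
  show d * u * d⁻¹ * (d * w * d⁻¹) = d * w * d⁻¹ * (d * u * d⁻¹)
  calc _ = d * (u * w) * d⁻¹ := by group
    _ = _ := by rw [hwu.symm.eq]; group

/-- The involution is not central. -/
theorem not_central [IsSimpleGroup G] (hπ : Cover π (tC t)) (hn : 5 ≤ n) (ht : orderOf t = 2) :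
    t ∉ Subgroup.center G := by
  intro h
  rcases (inferInstance : (Subgroup.center G).Normal).eq_bot_or_eq_top with e | e
  · rw [e, Subgroup.mem_bot] at h
    rw [h, orderOf_one] at ht
    omega
  · have hcomm : ∀ a b : Subgroup.centralizer ({t} : Set G), a * b = b * a := fun a b =>
      Subtype.ext (Subgroup.mem_center_iff.1 (show (b : G) ∈ Subgroup.center G from e ▸ Subgroup.mem_top _) a)
    have habel : ∀ a b : alternatingGroup (Fin n), a * b = b * a := fun a b => by
      obtain ⟨a, rfl⟩ := hπ.surj a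
      obtain ⟨b, rfl⟩ := hπ.surj b
      rw [← map_mul, ← map_mul, hcomm]
    have hc : Subgroup.center (alternatingGroup (Fin n)) = ⊥ :=
      alternatingGroup.center_eq_bot (by rw [Nat.card_fin]; omega)
    have hall : ∀ a : alternatingGroup (Fin n), a = 1 := fun a =>
      Subgroup.mem_bot.1 (hc ▸ Subgroup.mem_center_iff.2 fun b => habel b a)
    haveI : Nontrivial (alternatingGroup (Fin n)) := alternatingGroup.nontrivial_of_three_le_card (by
      rw [Nat.card_fin]; omega)
    obtain ⟨a, ha⟩ := exists_ne (1 : alternatingGroup (Fin n))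
    exact ha (hall a)

end

end CfsgLib.CoverType
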