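import Cfsg.Agent.Lib.AltCover.Cover
import Cfsg.Agent.Lib.McLType.NEInst
import Cfsg.Agent.Lib.McLType.NEChecks

/-!
# Permutations moving the first eight points; the action of the normaliser modulo the centre
-/

set_option autoImplicit false
set_option maxRecDepth 100000

namespace CfsgLib.CoverType

open Equiv Equiv.Perm CfsgLib.McLType CfsgLib.McLType.NE

variable {n : ℕ}

/-- A permutation of four transpositions fixing the high points moves the low ones. -/
theorem moves_low {σ : Perm (Fin n)} (hty : σ.cycleType = AltCover.R 4)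
    (hfix : ∀ p : Fin n, 8 ≤ p.val → σ p = p) {p : Fin n} (hp : p.val < 8) : σ p ≠ p := by
  classical
  intro hpp
  have hcard : σ.support.card = 8 := by
    rw [← sum_cycleType, hty, Multiset.sum_replicate]; rfl
  have hlow : ((Finset.univ.filter fun q : Fin n => q.val < 8).erase p).card ≤ 7 := by
    rw [Finset.card_erase_of_mem (by simp [hp])]
    have h : (Finset.univ.filter fun q : Fin n => q.val < 8).card ≤ (Finset.range 8).card :=
      Finset.card_le_card_of_injOn (fun q => q.val) (fun q hq => by
        simp only [Finset.coe_filter, Finset.mem_univ, true_and, Set.mem_setOf_eq] at hq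
        simpa using hq)
        (fun a _ b _ e => Fin.ext e)
    simp only [Finset.card_range] at h
    omega
  have hsub : σ.support ⊆ (Finset.univ.filter fun q : Fin n => q.val < 8).erase p := by
    intro q hq
    rw [mem_support] at hq
    simp only [Finset.mem_erase, Finset.mem_filter, Finset.mem_univ, true_and]
    refine ⟨fun e => hq (e ▸ hpp), ?_⟩
    by_contra h8
    exact hq (hfix q (not_lt.1 h8))
  have := Finset.card_le_card hsub
  omega

/-- An even permutation fixing the first eight of at most ten points is trivial. -/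
theorem eq_one_of_fix_low (hn : n ≤ 10) {σ : Perm (Fin n)} (hs : sign σ = 1)
    (hfix : ∀ p : Fin n, p.val < 8 → σ p = p) : σ = 1 := by
  classical
  have hle : σ.support.card ≤ 2 := by
    have h : σ.support.card ≤ (Finset.Ico 8 10).card :=
      Finset.card_le_card_of_injOn (fun q => q.val) (fun q hq => by
        have hq' : σ q ≠ q := mem_support.1 hq
        have h8 : 8 ≤ q.val := by
          by_contra h8
          exact hq' (hfix q (by omega))
        have := q.isLt
        simp only [Finset.coe_Ico, Set.mem_Ico]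
        omega)
        (fun a _ b _ e => Fin.ext e)
    simpa using h
  have h1 := card_support_ne_one σ
  rcases (by omega : σ.support.card = 0 ∨ σ.support.card = 2) with h | h
  · exact card_support_eq_zero.1 h
  · obtain ⟨x, y, hxy, rfl⟩ := card_support_eq_two.1 h
    rw [sign_swap hxy] at hs
    exact absurd hs (by decide)

/-- A vector without its central coordinate. -/
def hiPart (u : Fin 16) : Fin 8 := ⟨u.val / 2, by omega⟩

/-- Addition without the central coordinate. -/
def xh (a b : Fin 8) : Fin 8 := ⟨(a.val ^^^ b.val) % 8, Nat.mod_lt _ (by norm_num)⟩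

theorem hiPart_xr : ∀ u v, hiPart (xr u v) = xh (hiPart u) (hiPart v) := by decide +kernel

theorem hiPart_zero : ∀ u, hiPart u = 0 ↔ u = 0 ∨ u = 1 := by decide +kernel

theorem hiPart_eq : ∀ u v, hiPart u = hiPart v → u = v ∨ u = xr 1 v := by decide +kernel

theorem xh_eq_zero : ∀ a b, xh a b = 0 ↔ a = b := by decide +kernel

/-- The images of `2, 4, 8` under a code, without the central coordinate, as a number. -/
noncomputable def hiKey (c : ℕ) : ℕ := c / 32 % 8 + 8 * (c / 512 % 8) + 64 * (c / 8192 % 8)

/-- Each invertible action modulo the central coordinate is one of the listed ones. -/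
noncomputable def keysB (k : Fin 2) : Bool :=
  (List.range 512).all fun m =>
    let a := m % 8
    let b := m / 8 % 8
    let c := m / 64
    Nat.beq a 0 || Nat.beq b 0 || Nat.beq a b || Nat.beq c 0 || Nat.beq c a || Nat.beq c b ||
      Nat.beq c (a ^^^ b) || ((List.range 168).any fun j => Nat.beq (hiKey (lcD k j)) m)

theorem keysB_ok : ∀ k, keysB k = true := by decide +kernel

/-- An additive injective map fixing the central vector agrees with a listed one up to it. -/
theorem exists_code (k : Fin 2) {p : Fin 16 → Fin 16} (hinj : Function.Injective p)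
    (hadd : ∀ i j, p (xr i j) = xr (p i) (p j)) (h1 : p 1 = 1) :
    ∃ j : Fin 168, ∀ i ∈ ([2, 4, 8] : List (Fin 16)), p i = lin (lcD k j) i ∨ p i = xr 1 (lin (lcD k j) i) := by
  have h0 : p 0 = 0 := by
    have h := hadd 0 0
    rwa [xr_self, xr_self] at h
  have hne : ∀ i, i ≠ 0 → i ≠ 1 → hiPart (p i) ≠ 0 := fun i hi0 hi1 h =>
    ((hiPart_zero _).1 h).elim (fun e => hi0 (hinj (e.trans h0.symm))) (fun e => hi1 (hinj (e.trans h1.symm)))
  obtain ⟨a, ha⟩ : ∃ a, a = hiPart (p 2) := ⟨_, rfl⟩
  obtain ⟨b, hb⟩ : ∃ b, b = hiPart (p 4) := ⟨_, rfl⟩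
  obtain ⟨c, hc⟩ : ∃ c, c = hiPart (p 8) := ⟨_, rfl⟩
  have e1 : a ≠ 0 := ha ▸ hne 2 (by decide) (by decide)
  have e2 : b ≠ 0 := hb ▸ hne 4 (by decide) (by decide)
  have e3 : c ≠ 0 := hc ▸ hne 8 (by decide) (by decide)
  have e4 : a ≠ b := fun e => hne 6 (by decide) (by decide) (by
    rw [show (6 : Fin 16) = xr 2 4 by decide, hadd, hiPart_xr, ← ha, ← hb, (xh_eq_zero _ _).2 e])
  have e5 : c ≠ a := fun e => hne 10 (by decide) (by decide) (by
    rw [show (10 : Fin 16) = xr 8 2 by decide, hadd, hiPart_xr, ← ha, ← hc, (xh_eq_zero _ _).2 e])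
  have e6 : c ≠ b := fun e => hne 12 (by decide) (by decide) (by
    rw [show (12 : Fin 16) = xr 8 4 by decide, hadd, hiPart_xr, ← hb, ← hc, (xh_eq_zero _ _).2 e])
  have e7 : c.val ≠ a.val ^^^ b.val := fun e => hne 14 (by decide) (by decide) (by
    rw [show (14 : Fin 16) = xr 8 (xr 2 4) by decide, hadd, hadd, hiPart_xr, hiPart_xr, ← ha, ← hb, ← hc]
    refine (xh_eq_zero _ _).2 (Fin.ext ?_)
    rw [e]
    exact (Nat.mod_eq_of_lt (Nat.xor_lt_two_pow (n := 3) a.isLt b.isLt)).symm)
  have hm : a.val + 8 * b.val + 64 * c.val < 512 := by omega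
  have hk := keysB_ok k
  simp only [keysB, List.all_eq_true, List.mem_range, Bool.or_eq_true, Nat.beq_eq, List.any_eq_true] at hk
  have hk := hk _ hm
  rw [show (a.val + 8 * b.val + 64 * c.val) % 8 = a.val by omega,
    show (a.val + 8 * b.val + 64 * c.val) / 8 % 8 = b.val by omega,
    show (a.val + 8 * b.val + 64 * c.val) / 64 = c.val by omega] at hk
  rcases hk with ((((((h | h) | h) | h) | h) | h) | h) | ⟨j, hj, hkey⟩
  · exact absurd (Fin.ext h) e1
  · exact absurd (Fin.ext h) e2
  · exact absurd (Fin.ext h) e4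
  · exact absurd (Fin.ext h) e3
  · exact absurd (Fin.ext h) e5
  · exact absurd (Fin.ext h) e6
  · exact absurd h e7
  refine ⟨⟨j, hj⟩, fun i hi => hiPart_eq _ _ (Fin.ext ?_)⟩
  obtain ⟨-, l2, l4, l8⟩ := lin_basis (lcD k j)
  have f2 : lcD k j / 32 % 8 = lcD k j / 16 % 16 / 2 := by omega
  have f4 : lcD k j / 512 % 8 = lcD k j / 256 % 16 / 2 := by omega
  have f8 : lcD k j / 8192 % 8 = lcD k j / 4096 % 16 / 2 := by omega
  rw [hiKey, f2, f4, f8] at hkey
  have va : a.val = (p 2).val / 2 := congrArg Fin.val ha
  have vb : b.val = (p 4).val / 2 := congrArg Fin.val hb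
  have vc : c.val = (p 8).val / 2 := congrArg Fin.val hc
  simp only [hiPart]
  generalize lcD k j / 16 % 16 = A, lcD k j / 256 % 16 = B, lcD k j / 4096 % 16 = C at *
  simp only [List.mem_cons, List.not_mem_nil, or_false] at hi
  rcases hi with rfl | rfl | rfl
  · rw [l2]; omega
  · rw [l4]; omega
  · rw [l8]; omega

end CfsgLib.CoverType
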