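import Cfsg.Agent.Lib.McLSub.Coord

/-!
# The two elementary subgroups of order sixteen over the four-group in the cover of degree eight
-/

set_option autoImplicit false
set_option maxRecDepth 100000

namespace CfsgLib.McLSub

open Subgroup CfsgLib.McLType CfsgLib.McLType.NE

/-- An elementary subgroup of order sixteen over `⟨tm, bm⟩` is one of the two given ones. -/
theorem uniq₀ (X : Subgroup Cm) (hX : Nat.card X = 16) (hbX : bm ∈ X) (hsq : ∀ x ∈ X, x * x = 1) :
    X = esub (setup co₀ 0) ∨ X = esub (setup co₀ 1) := by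
  have hab : ∀ x ∈ X, ∀ y ∈ X, x * y = y * x := by
    intro x hx y hy
    have h1 := hsq _ (mul_mem hx hy)
    calc x * y = x * (x * y * (x * y)) * y := by rw [h1, mul_one]
      _ = x * x * (y * x) * (y * y) := by group
      _ = y * x := by rw [hsq x hx, hsq y hy, one_mul, mul_one]
  have hmemX : ∀ x ∈ X, (∃ i, x = eG co₀ 0 i) ∨ ∃ m, x = eG co₀ 1 m := fun x hx =>
    fixed_involution (co := co₀) card₀ (mem_centralizer_singleton_iff.2 (cm_comm_tm x)) (hab x hx _ hbX) (hsq x hx)
  have hV : ∀ v : Fin 16, v.val < 4 → eG co₀ 0 v ∈ (esub (setup co₀ 1) : Set Cm) := fun v hv =>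
    ⟨v, eG_shared hv⟩
  by_cases h : ∀ x ∈ X, x ∈ esub (setup co₀ 0)
  · exact Or.inl (eq_of_le_of_card_ge h (by rw [hX, (setup co₀ 0).card_esub]))
  · push Not at h
    obtain ⟨x, hx, hx0⟩ := h
    obtain ⟨m, rfl⟩ : ∃ m, x = eG co₀ 1 m := (hmemX x hx).resolve_left fun ⟨i, hi⟩ => hx0 ⟨i, hi.symm⟩
    have hm4 : 4 ≤ m.val := by
      by_contra hlt
      exact hx0 ⟨m, (eG_shared (by omega)).symm⟩
    refine Or.inr (eq_of_le_of_card_ge (fun y hy => ?_) (by rw [hX, (setup co₀ 1).card_esub]))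
    rcases hmemX y hy with ⟨i, rfl⟩ | ⟨m', rfl⟩
    · by_cases hi : i.val < 4
      · exact hV i hi
      · exfalso
        have h1 := acts_cross (co := co₀) m i
        rw [hab _ hx _ hy, mul_inv_cancel_right] at h1
        exact noncomm_ok i m (by omega) hm4 (eG_inj 0 h1).symm
    · exact ⟨m', rfl⟩

theorem esub₀_ne : esub (setup co₀ 0) ≠ esub (setup co₀ 1) := by
  intro h
  have hmem : eG co₀ 1 4 ∈ esub (setup co₀ 0) := h ▸ ⟨4, rfl⟩
  obtain ⟨i, hi⟩ := hmem
  by_cases hi4 : i.val < 4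
  · exact absurd (eG_inj 1 (hi.symm.trans (eG_shared hi4).symm)).symm (fun e => by
      have := congrArg Fin.val e
      simp at this
      omega)
  · have h1 := acts_cross (co := co₀) 4 i
    rw [← hi, (setup co₀ 0).mul, xr_comm, ← (setup co₀ 0).mul, mul_inv_cancel_right] at h1
    exact noncomm_ok i 4 (by omega) (by decide) (eG_inj 0 h1).symm

end CfsgLib.McLSub
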