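import Cfsg.Agent.Lib.CoverType.Basic
import Cfsg.Agent.Lib.CoverType.OneClass
import Cfsg.Agent.Lib.CoverType.Invariants
import Cfsg.Agent.Lib.CoverType.SubPerms
import Cfsg.Agent.Lib.CoverType.Uniq
import Cfsg.Agent.Lib.McLSub.Mcl

/-!
# A subgroup of McLaughlin type in degree nine or ten

In degree `n ≤ 10` the elements normalising one of the two elementary subgroups of the cover of degree eight lie
in that cover: modulo an element of the cover they centralise a regular group on eight points, so they are even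
there. An element exchanging `t` and `b` and normalising both subgroups comes from a square.
-/

set_option autoImplicit false
set_option maxRecDepth 100000
set_option linter.unusedSectionVars false

namespace CfsgLib.CoverType

open Equiv Equiv.Perm AltCover CfsgLib.McLType CfsgLib.McLType.NE CfsgLib.McLSub

variable {G : Type*} [Group G] [Finite G] {n : ℕ} {t : G}
  {π : Subgroup.centralizer ({t} : Set G) →* alternatingGroup (Fin n)} (B : Below t π)

/-- An element of an elementary subgroup inside the centraliser. -/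
noncomputable def eC (k : Fin 2) (i : Fin 16) : Subgroup.centralizer ({t} : Set G) :=
  ⟨eS B.iota k i, B.mem _⟩

theorem eC_mul (k : Fin 2) (i j : Fin 16) : eC B k i * eC B k j = eC B k (xr i j) :=
  Subtype.ext (by
    show B.iota (eG co₀ k i) * B.iota (eG co₀ k j) = B.iota (eG co₀ k (xr i j))
    rw [← map_mul, eG_mul])

theorem eC_inj (k : Fin 2) : Function.Injective (eC B k) := fun _ _ h =>
  eG_inj k (B.inj (congrArg Subtype.val h))

theorem eC_one (k : Fin 2) : eC B k 1 = tC t :=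
  Subtype.ext (by show eS B.iota k 1 = t; rw [eS, eG_one, B.map_t])

theorem eC_two (k : Fin 2) : (eC B k 2 : G) = B.iota bm := eS_two B.iota k

theorem eC_zero (k : Fin 2) : eC B k 0 = 1 :=
  Subtype.ext (by show eS B.iota k 0 = 1; rw [eS, eG_zero, map_one])

theorem eC_sq (k : Fin 2) (i : Fin 16) : eC B k i * eC B k i = 1 := by rw [eC_mul, xr_self, eC_zero]

theorem img_eC_mul (k : Fin 2) (i j : Fin 16) :
    img π (eC B k i) * img π (eC B k j) = img π (eC B k (xr i j)) := by rw [← map_mul, eC_mul]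

theorem img_fix (c : Cm) {p : Fin n} (hp : 8 ≤ p.val) : img π ⟨B.iota c, B.mem c⟩ p = p := B.fix c p hp

theorem coe_esubS (k : Fin 2) : (((esub (setup co₀ k)).map B.iota : Subgroup G) : Set G) = eSet B.iota k := by
  show B.iota '' Set.range (eG co₀ k) = _
  rw [← Set.range_comp]
  rfl

theorem img_eC_fix (k : Fin 2) (i : Fin 16) {p : Fin n} (hp : 8 ≤ p.val) : img π (eC B k i) p = p :=
  img_fix B _ hp

/-- Twice. -/
def dbl (m : Fin 8) : Fin 16 := ⟨2 * m.val, by omega⟩

theorem dbl_xr : ∀ a b : Fin 8, a ≠ b → xr (dbl a) (dbl b) ≠ 0 ∧ xr (dbl a) (dbl b) ≠ 1 := by decide +kernel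

variable (hn : n = 9 ∨ n = 10) (hπ : AltCover.Cover π (tC t))
include hn hπ

theorem eC_type (k : Fin 2) {i : Fin 16} (h0 : i ≠ 0) (h1 : i ≠ 1) : (img π (eC B k i)).cycleType = R 4 :=
  cycleType_invol hπ (by omega) (by omega) (eC_sq B k i)
    (fun e => h0 (eC_inj B k (e.trans (eC_zero B k).symm))) (fun e => h1 (eC_inj B k (e.trans (eC_one B k).symm)))

theorem img_moves (k : Fin 2) {i : Fin 16} (h0 : i ≠ 0) (h1 : i ≠ 1) {p : Fin n} (hp : p.val < 8) :
    img π (eC B k i) p ≠ p :=
  moves_low (eC_type B hn hπ k h0 h1) (fun _ hq => img_fix B _ hq) hp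

theorem img_orbit (k : Fin 2) {p : Fin n} (hp : p.val < 8) :
    ∃ i, img π (eC B k i) ⟨0, by omega⟩ = p := by
  have h8 : ∀ i, (img π (eC B k i) ⟨0, by omega⟩).val < 8 := by
    intro i
    by_contra hc
    have h1 := (img π (eC B k i)).injective (img_fix B _ (not_lt.1 hc) : img π (eC B k i) _ = _)
    rw [h1] at hc
    exact hc (by norm_num)
  let f : Fin 8 → Fin 8 := fun m => ⟨_, h8 (dbl m)⟩
  have hf : Function.Injective f := by
    intro a b hab
    have he : img π (eC B k (dbl a)) ⟨0, by omega⟩ = img π (eC B k (dbl b)) ⟨0, by omega⟩ := Fin.ext (Fin.ext_iff.1 hab :)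
    by_contra hne
    refine img_moves B hn hπ k (dbl_xr a b hne).1 (dbl_xr a b hne).2 (p := ⟨0, by omega⟩) (by norm_num) ?_
    rw [← img_eC_mul, Perm.mul_apply, ← he, ← Perm.mul_apply, img_eC_mul, xr_self, eC_zero, map_one, Perm.one_apply]
  obtain ⟨m, hm⟩ := (Finite.injective_iff_surjective.1 hf) ⟨p.val, hp⟩
  exact ⟨_, Fin.ext (Fin.ext_iff.1 hm :)⟩

/-- The normalisers of the two subgroups lie in the cover of degree eight. -/
theorem norm_mem_below (k : Fin 2) (x : G) (hxt : x * t = t * x)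
    (hx : x ∈ Subgroup.normalizer (eSet B.iota k)) : x ∈ B.iota.range := by
  obtain ⟨X, hX⟩ : ∃ X : Subgroup.centralizer ({t} : Set G), X = ⟨x, Subgroup.mem_centralizer_singleton_iff.2 hxt⟩ :=
    ⟨_, rfl⟩
  have h : ∀ i, ∃ j, eC B k j = X * eC B k i * X⁻¹ := fun i => by
    rw [← coe_esubS] at hx
    obtain ⟨_, ⟨j, rfl⟩, hj⟩ := (Subgroup.mem_normalizer_iff.1 hx (eS B.iota k i)).1 ⟨_, ⟨i, rfl⟩, rfl⟩
    exact ⟨j, Subtype.ext (by rw [hX]; exact hj)⟩
  choose p hp using h
  have hadd : ∀ i j, p (xr i j) = xr (p i) (p j) := fun i j => eC_inj B k (by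
    rw [← eC_mul, hp, hp, hp, ← eC_mul]; group)
  have hpi : Function.Injective p := fun i j e => eC_inj B k
    (mul_left_cancel (mul_right_cancel ((hp i).symm.trans ((congrArg (eC B k) e).trans (hp j)))))
  have hp1 : p 1 = 1 := eC_inj B k (by
    rw [hp, eC_one, hπ.central, mul_inv_cancel_right])
  obtain ⟨j, hj⟩ := exists_code k hpi hadd hp1
  -- the element of the cover with the same action
  obtain ⟨c, hc⟩ : ∃ c, c = evG (l1G co₀ k) (l2G co₀ k) (wD k j) := ⟨_, rfl⟩
  obtain ⟨W, hW⟩ : ∃ W : Subgroup.centralizer ({t} : Set G), W = ⟨B.iota c, B.mem c⟩ := ⟨_, rfl⟩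
  have hWq : ∀ i, W * eC B k i * W⁻¹ = eC B k (lin (lcD k j) i) := fun i => Subtype.ext (by
    rw [hW]
    show B.iota c * B.iota (eG co₀ k i) * (B.iota c)⁻¹ = B.iota (eG co₀ k (lin (lcD k j) i))
    have h := (setup co₀ k).acts_word (wD k j) i
    rw [lcD_eq] at h
    rw [← h, ← hc, map_mul, map_mul, map_inv])
  have hq1 : ∀ v, img π (eC B k (xr 1 v)) = img π (eC B k v) := fun v => by
    rw [← img_eC_mul, eC_one, show img π (tC t) = 1 from congrArg Subtype.val hπ.map_z, one_mul]
  have hq : ∀ i, img π (eC B k (p i)) = img π (eC B k (lin (lcD k j) i)) := by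
    have hd : ∀ d ∈ ([2, 4, 8] : List (Fin 16)),
        img π (eC B k (p d)) = img π (eC B k (lin (lcD k j) d)) := fun d hd => by
      rcases hj d hd with e | e
      · rw [e]
      · rw [e, hq1]
    have hp0 : p 0 = 0 := by
      have h := hadd 0 0
      rwa [xr_self, xr_self] at h
    have hl0 : lin (lcD k j) 0 = 0 := by
      have h := lin_xr (lcD k j) 0 0
      rwa [xr_self, xr_self] at h
    have hl1 : lin (lcD k j) 1 = 1 := eC_inj B k (by
      rw [← hWq, eC_one, hπ.central, mul_inv_cancel_right])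
    have hpick : ∀ i d : Fin 16, d ∈ ([1, 2, 4, 8] : List (Fin 16)) →
        img π (eC B k (p (pick i d.val d))) = img π (eC B k (lin (lcD k j) (pick i d.val d))) := by
      intro i d hd'
      unfold pick
      split
      · rcases List.mem_cons.1 hd' with rfl | hd'
        · rw [hp1, hl1]
        · exact hd d hd'
      · rw [hp0, hl0]
    intro i
    rw [eq_pick i]
    simp only [hadd, lin_xr, ← img_eC_mul]
    rw [show pick i 1 1 = pick i (1 : Fin 16).val 1 from rfl, show pick i 2 2 = pick i (2 : Fin 16).val 2 from rfl,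
      show pick i 4 4 = pick i (4 : Fin 16).val 4 from rfl, show pick i 8 8 = pick i (8 : Fin 16).val 8 from rfl,
      hpick i 1 (by simp), hpick i 2 (by simp), hpick i 4 (by simp), hpick i 8 (by simp)]
  obtain ⟨a, ha⟩ : ∃ a, a = img π (W⁻¹ * X) := ⟨_, rfl⟩
  have hcomm : ∀ i q, a (img π (eC B k i) q) = img π (eC B k i) (a q) := by
    intro i q
    have h1 : img π (W⁻¹ * X) * img π (eC B k i) * (img π (W⁻¹ * X))⁻¹ = img π (eC B k i) := by
      rw [map_mul, map_inv]
      have e1 := hq i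
      rw [hp, map_mul, map_mul, map_inv, ← hWq, map_mul, map_mul, map_inv] at e1
      calc (img π W)⁻¹ * img π X * img π (eC B k i) * ((img π W)⁻¹ * img π X)⁻¹
          = (img π W)⁻¹ * (img π X * img π (eC B k i) * (img π X)⁻¹) * img π W := by group
        _ = _ := by rw [e1]; group
    rw [← ha, mul_inv_eq_iff_eq_mul] at h1
    exact Equiv.congr_fun h1 q
  have hr : (a ⟨0, by omega⟩).val < 8 := by
    by_contra hc
    refine img_moves B hn hπ k (i := 2) (by decide) (by decide) (p := ⟨0, by omega⟩) (by norm_num) (a.injective ?_)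
    rw [hcomm]
    exact img_fix B _ (not_lt.1 hc)
  obtain ⟨i₀, hi₀⟩ := img_orbit B hn hπ k hr
  have hfin : img π ((eC B k i₀)⁻¹ * (W⁻¹ * X)) = 1 := by
    refine eq_one_of_fix_low (by omega) ?_ fun q hq' => ?_
    · exact mem_alternatingGroup.1 (π _).2
    · obtain ⟨i, hi⟩ := img_orbit B hn hπ k hq'
      rw [← hi, map_mul, map_inv, ← ha, Perm.mul_apply, hcomm, Perm.inv_eq_iff_eq, ← hi₀, ← Perm.mul_apply,
        ← Perm.mul_apply, img_eC_mul, img_eC_mul, xr_comm]
  have hrange : ((eC B k i₀)⁻¹ * (W⁻¹ * X) : Subgroup.centralizer ({t} : Set G)).1 ∈ B.iota.range := by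
    rcases (hπ.ker _).1 (Subtype.ext hfin) with e | e <;> rw [e]
    · exact one_mem _
    · exact ⟨tm, B.map_t⟩
  have hmem := mul_mem (show (W : G) ∈ B.iota.range from hW ▸ ⟨c, rfl⟩)
    (mul_mem (show (eC B k i₀ : G) ∈ B.iota.range from ⟨_, rfl⟩) hrange)
  have he : (W : G) * ((eC B k i₀ : G) * ((eC B k i₀)⁻¹ * (W⁻¹ * X) : Subgroup.centralizer ({t} : Set G)).1) = x := by
    push_cast
    rw [hX]
    group
  rwa [he] at hmem

/-- The coordinates in the larger centraliser. -/
def toSub : Sub t where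
  iota := B.iota
  inj := B.inj
  map_t := B.map_t
  norm_mem := norm_mem_below B hn hπ

/-- The elements of an elementary subgroup over `⟨t, b⟩` lie in the cover of degree eight. -/
theorem elem_le_range (ht : orderOf t = 2) {X : Subgroup G} (hX : Nat.card X = 16) (htX : t ∈ X)
    (hbX : B.iota bm ∈ X) (hsq : ∀ x ∈ X, x * x = 1) : X ≤ B.iota.range := by
  classical
  have hab : ∀ x ∈ X, ∀ y ∈ X, x * y = y * x := by
    intro x hx y hy
    have h1 := hsq _ (mul_mem hx hy)
    calc x * y = x * (x * y * (x * y)) * y := by rw [h1, mul_one]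
      _ = x * x * (y * x) * (y * y) := by group
      _ = y * x := by rw [hsq x hx, hsq y hy, one_mul, mul_one]
  let f : X →* Subgroup.centralizer ({t} : Set G) :=
    (Subgroup.inclusion fun x hx => Subgroup.mem_centralizer_singleton_iff.2 (hab x hx t htX))
  have hfb : ∀ x : X, Commute (img π (f x)) (img π (eC B 0 2)) := fun x => by
    have h : f x * eC B 0 2 = eC B 0 2 * f x := Subtype.ext (by
      show (x : G) * (eC B 0 2 : G) = (eC B 0 2 : G) * x
      rw [eC_two]
      exact hab _ x.2 _ hbX)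
    show img π (f x) * img π (eC B 0 2) = _
    rw [← map_mul, h, map_mul]
  have hhigh : ∀ x : X, ∀ q : Fin n, 8 ≤ q.val → 8 ≤ (img π (f x) q).val := by
    intro x q hq
    by_contra hc
    refine img_moves B hn hπ 0 (i := 2) (by decide) (by decide) (not_le.1 hc) ?_
    rw [← Perm.mul_apply, ← (hfb x).eq, Perm.mul_apply, img_eC_fix B _ _ hq]
  intro u hu
  obtain ⟨U, hU⟩ : ∃ U : X, U = ⟨u, hu⟩ := ⟨_, rfl⟩
  suffices hfix : ∀ q : Fin n, 8 ≤ q.val → img π (f U) q = q by
    have := B.range_of_fix (f U) hfix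
    rw [hU] at this
    exact this
  intro q hq
  by_contra hmove
  have hn10 : n = 10 := by
    rcases hn with h | h
    · exact absurd (Fin.ext (by
        have := hhigh U q hq
        have := q.isLt
        have := (img π (f U) q).isLt
        omega)) hmove
    · exact h
  subst hn10
  have h89 : img π (f U) 8 = 9 ∧ img π (f U) 9 = 8 := by
    have hne : img π (f U) 8 ≠ img π (f U) 9 := fun e => absurd ((img π (f U)).injective e) (by decide)
    have h8 := hhigh U 8 (by decide)
    have h9 := hhigh U 9 (by decide)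
    have key : ∀ a b r s : Fin 10, 8 ≤ a.val → 8 ≤ b.val → a ≠ b → 8 ≤ r.val → s ≠ r →
        (r = 8 → s = a) → (r = 9 → s = b) → a = 9 ∧ b = 8 := by decide +kernel
    exact key _ _ q _ h8 h9 hne hq hmove (fun e => by rw [e]) (fun e => by rw [e])
  have hhigh2 : ∀ x : X, (img π (f x) 8 = 8 ∧ img π (f x) 9 = 9) ∨ (img π (f x) 8 = 9 ∧ img π (f x) 9 = 8) := by
    intro x
    have key : ∀ a b : Fin 10, 8 ≤ a.val → 8 ≤ b.val → a ≠ b → (a = 8 ∧ b = 9) ∨ (a = 9 ∧ b = 8) := by
      decide +kernel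
    exact key _ _ (hhigh x 8 (by decide)) (hhigh x 9 (by decide))
      fun e => absurd ((img π (f x)).injective e) (by decide)
  -- a further element fixing the high points
  obtain ⟨T, hT⟩ : ∃ T : X, T = ⟨t, htX⟩ := ⟨_, rfl⟩
  obtain ⟨b, hb⟩ : ∃ b : X, b = ⟨B.iota bm, hbX⟩ := ⟨_, rfl⟩
  obtain ⟨w, hw⟩ : ∃ w : X, w ∉ [1, T, b, T * b, U, T * U, b * U, T * b * U].toFinset := by
    by_contra hall
    push Not at hall
    haveI : Fintype X := Fintype.ofFinite X
    have h1 := Finset.card_le_card (s := (Finset.univ : Finset X)) (fun x _ => hall x)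
    rw [Finset.card_univ, ← Nat.card_eq_fintype_card, hX] at h1
    have h2 := h1.trans (List.toFinset_card_le _)
    simp only [List.length_cons, List.length_nil] at h2
    omega
  simp only [List.mem_toFinset, List.mem_cons, List.not_mem_nil, or_false, not_or] at hw
  obtain ⟨w1, wT, wb, wTb, wU, wTU, wbU, wTbU⟩ := hw
  have hsqX : ∀ x : X, x * x = 1 := fun x => Subtype.ext (hsq x x.2)
  obtain ⟨k, hk, hk1, hkT, hkb, hkTb⟩ : ∃ k : X, (img π (f k) 8 = 8 ∧ img π (f k) 9 = 9) ∧
      k ≠ 1 ∧ k ≠ T ∧ k ≠ b ∧ k ≠ T * b := by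
    rcases hhigh2 w with h | h
    · exact ⟨w, h, w1, wT, wb, wTb⟩
    · have hcancel : ∀ y, w * U = y → w = y * U := fun y e => by rw [← e, mul_assoc, hsqX, mul_one]
      refine ⟨w * U, ?_, fun e => wU (by rw [hcancel _ e, one_mul]), fun e => wTU (hcancel _ e),
        fun e => wbU (hcancel _ e), fun e => wTbU (hcancel _ e)⟩
      simp only [map_mul, Perm.mul_apply, h89.1, h89.2, h.1, h.2, and_self]
  have hkfix : ∀ r : Fin 10, 8 ≤ r.val → img π (f k) r = r := by
    intro r hr
    rcases (by decide +kernel : ∀ r : Fin 10, 8 ≤ r.val → r = 8 ∨ r = 9) r hr with rfl | rfl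
    · exact hk.1
    · exact hk.2
  have hfbm : f b = eC B 0 2 := Subtype.ext (by rw [hb]; exact (eC_two B 0).symm)
  have hfT : f T = tC t := Subtype.ext (by rw [hT]; rfl)
  have hty : ∀ x : X, x ≠ 1 → x ≠ T → (img π (f x)).cycleType = R 4 := fun x h1 hT' =>
    cycleType_invol hπ (by norm_num) (by norm_num) (by rw [← map_mul, hsqX, map_one])
      (fun e => h1 (Subtype.ext (congrArg Subtype.val e :)))
      (fun e => hT' (by subst hT; exact Subtype.ext (congrArg Subtype.val e :)))
  have hUT : U ≠ 1 ∧ U ≠ T := by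
    constructor <;> intro e <;> rw [e] at h89
    · simp at h89
    · rw [hfT, show img π (tC t) = 1 from congrArg Subtype.val hπ.map_z] at h89
      simp at h89
  obtain ⟨p, hp8, hpU⟩ : ∃ p : Fin 10, p.val < 8 ∧ img π (f U) p = p := by
    by_contra hall
    push Not at hall
    have hs : (img π (f U)).support = Finset.univ := by
      refine Finset.eq_univ_of_forall fun r => mem_support.2 fun e => ?_
      by_cases hr : r.val < 8
      · exact hall r hr e
      · rcases (by decide +kernel : ∀ r : Fin 10, 8 ≤ r.val → r = 8 ∨ r = 9) r (not_lt.1 hr) with rfl | rfl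
        · rw [h89.1] at e; exact absurd e (by decide)
        · rw [h89.2] at e; exact absurd e (by decide)
    have := sum_cycleType (img π (f U))
    rw [hty U hUT.1 hUT.2, hs, Multiset.sum_replicate, Finset.card_univ, Fintype.card_fin] at this
    norm_num at this
  have hcom : ∀ x : X, img π (f U) (img π (f x) p) = img π (f x) p := fun x => by
    rw [← Perm.mul_apply, ← map_mul, ← map_mul, show U * x = x * U from Subtype.ext (hab _ U.2 _ x.2), map_mul,
      map_mul, Perm.mul_apply, hpU]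
  have hkb1 : k * b ≠ 1 := fun e => hkb (by
    rw [← mul_one k, ← hsqX b, ← mul_assoc, e, one_mul])
  have hkbT : k * b ≠ T := fun e => hkTb (by rw [← e, mul_assoc, hsqX, mul_one])
  have d1 : img π (f b) p ≠ p := by
    rw [hfbm]; exact img_moves B hn hπ 0 (by decide) (by decide) hp8
  have d2 : img π (f k) p ≠ p := moves_low (hty k hk1 hkT) hkfix hp8
  have d3 : img π (f k) p ≠ img π (f b) p := by
    intro e
    refine moves_low (hty (k * b) hkb1 hkbT) (fun r hr => ?_) hp8 ?_
    · rw [map_mul, map_mul, Perm.mul_apply, hfbm, img_eC_fix B _ _ hr, hkfix r hr]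
    · rw [map_mul, map_mul, Perm.mul_apply, ← e, ← Perm.mul_apply, ← map_mul, ← map_mul, hsqX, map_one, map_one,
        Perm.one_apply]
  have hsub : (img π (f U)).support ⊆ ((Finset.univ.erase p).erase (img π (f b) p)).erase (img π (f k) p) := by
    intro r hr
    rw [mem_support] at hr
    simp only [Finset.mem_erase, Finset.mem_univ, and_true]
    exact ⟨fun e => hr (e ▸ hcom k), fun e => hr (e ▸ hcom b), fun e => hr (e ▸ hpU)⟩
  have h7 := Finset.card_le_card hsub
  rw [Finset.card_erase_of_mem (by simp [d2, d3]), Finset.card_erase_of_mem (by simp [d1]),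
    Finset.card_erase_of_mem (Finset.mem_univ _), Finset.card_univ, Fintype.card_fin] at h7
  have := sum_cycleType (img π (f U))
  rw [hty U hUT.1 hUT.2, Multiset.sum_replicate] at this
  simp only [smul_eq_mul] at this
  omega

/-- The two elementary subgroups over `⟨t, b⟩`. -/
theorem elem_uniq (ht : orderOf t = 2) {X : Subgroup G} (hX : Nat.card X = 16) (htX : t ∈ X)
    (hbX : B.iota bm ∈ X) (hsq : ∀ x ∈ X, x * x = 1) :
    X = (esub (setup co₀ 0)).map B.iota ∨ X = (esub (setup co₀ 1)).map B.iota := by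
  have hle := elem_le_range B hn hπ ht hX htX hbX hsq
  have hmap : (X.comap B.iota).map B.iota = X := Subgroup.map_comap_eq_self hle
  rcases uniq₀ (X.comap B.iota) (by rw [← hX, ← Subgroup.card_map_of_injective B.inj, hmap]) hbX
      (fun c hc => B.inj (by rw [map_mul, hsq _ hc, map_one])) with h | h <;> rw [h] at hmap
  · exact Or.inl hmap.symm
  · exact Or.inr hmap.symm

/-- A word fixing `t` and moving `b` to `t * b`. -/
theorem exists_mover (k : Fin 2) : ∃ w : G, w * t * w⁻¹ = t ∧ w * B.iota bm * w⁻¹ = t * B.iota bm ∧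
    w * (t * B.iota bm) * w⁻¹ = B.iota bm ∧ w ∈ Subgroup.normalizer (eSet B.iota k) := by
  obtain ⟨j, hj⟩ := orb_spec k 3 (by decide) (by decide)
  obtain ⟨w, hw⟩ : ∃ w, w = B.iota (evG (l1G co₀ k) (l2G co₀ k) (wD k j)) := ⟨_, rfl⟩
  have hA : Acts (eS B.iota k) w (lin (evC (c1D k) (c2D k) (wD k j))) :=
    hw ▸ acts_map B.iota ((setup co₀ k).acts_word (wD k j))
  have hwt : w * t * w⁻¹ = t := by
    rw [hw, Subgroup.mem_centralizer_singleton_iff.1 (B.mem _), mul_inv_cancel_right]
  have h3 : eS B.iota k 3 = t * B.iota bm := by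
    show B.iota (eG co₀ k 3) = _
    rw [show (3 : Fin 16) = xr 1 2 by decide, ← eG_mul, map_mul, eG_one, eG_two, B.map_t]
    rfl
  have hb : w * B.iota bm * w⁻¹ = t * B.iota bm := by
    have h := hA 2
    rwa [hj, eS_two, h3] at h
  have htt : t * t = 1 := by rw [← B.map_t, ← map_mul, tm_sq, map_one]
  refine ⟨w, hwt, hb, ?_, ?_⟩
  · rw [show w * (t * B.iota bm) * w⁻¹ = w * t * w⁻¹ * (w * B.iota bm * w⁻¹) by group, hwt, hb, ← mul_assoc, htt,
      one_mul]
  · exact (setupS (toSub B hn hπ) k).mem_normalizer hA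

/-- An element exchanging `t` and `b` in the normaliser of each subgroup. -/
theorem exists_swap_below (ht : orderOf t = 2) (hcl : ∀ u : G, orderOf u = 2 → IsConj u t) (k : Fin 2) :
    ∃ g : G, g * t * g⁻¹ = B.iota bm ∧ g * B.iota bm * g⁻¹ = t ∧ g ∈ Subgroup.normalizer (eSet B.iota k) := by
  have hne : ∀ {i : Fin 16}, i ≠ 2 → eS B.iota 0 i ≠ B.iota bm := fun {i} hi h =>
    hi (eG_inj 0 (B.inj (h.trans (eS_two B.iota 0).symm)))
  have e0 : eS B.iota 0 0 = 1 := by rw [eS, eG_zero, map_one]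
  have e1 : eS B.iota 0 1 = t := by rw [eS, eG_one, B.map_t]
  have hb1 : B.iota bm ≠ 1 := fun h => hne (i := 0) (by decide) (e0.trans h.symm)
  have hbt : B.iota bm ≠ t := fun h => hne (i := 1) (by decide) (e1.trans h.symm)
  have hb2 : B.iota bm * B.iota bm = 1 := by
    have h := congrArg Subtype.val (eC_sq B 0 2)
    push_cast at h
    rwa [eC_two] at h
  have htt : t * t = 1 := by rw [← pow_two, ← ht, pow_orderOf_eq_one]
  have hbC : B.iota bm * t = t * B.iota bm := Subgroup.mem_centralizer_singleton_iff.1 (B.mem bm)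
  have hbo : orderOf (B.iota bm) = 2 := orderOf_eq_prime (by rw [pow_two, hb2]) hb1
  obtain ⟨g, hg⟩ := isConj_iff.1 (hcl _ hbo).symm
  -- an element fixing `b` and moving `t` to `t * b`
  obtain ⟨d, hdt, hdb⟩ : ∃ d : G, d * t * d⁻¹ = t * B.iota bm ∧ d * B.iota bm * d⁻¹ = B.iota bm := by
    obtain ⟨u, hu⟩ : ∃ u, u = g⁻¹ * t * g := ⟨_, rfl⟩
    have hut : u * t = t * u := by
      have e : g⁻¹ * B.iota bm * g = t := by rw [← hg]; group
      calc u * t = g⁻¹ * t * g * (g⁻¹ * B.iota bm * g) := by rw [hu, e]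
        _ = g⁻¹ * (t * B.iota bm) * g := by group
        _ = g⁻¹ * (B.iota bm * t) * g := by rw [hbC]
        _ = g⁻¹ * B.iota bm * g * (g⁻¹ * t * g) := by group
        _ = t * u := by rw [hu, e]
    have hgu : g * u * g⁻¹ = t := by rw [hu]; group
    have hu2 : u * u = 1 := by
      rw [hu, show g⁻¹ * t * g * (g⁻¹ * t * g) = g⁻¹ * (t * t) * g by group, htt]; group
    have hu1 : u ≠ 1 := fun e => by
      rw [e] at hgu
      simp [← hgu] at ht
    have hut' : u ≠ t := fun e => hbt ((hg.symm.trans (by rw [e])).trans hgu)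
    have htu : t * u * (t * u) = 1 := by
      rw [show t * u * (t * u) = t * (u * t) * u by group, hut, ← mul_assoc, htt, one_mul, hu2]
    obtain ⟨c, hc⟩ := invol_conj hπ (by omega) (by omega)
      (x := (⟨u, Subgroup.mem_centralizer_singleton_iff.2 hut⟩ : Subgroup.centralizer ({t} : Set G)))
      (y := ⟨t * u, Subgroup.mem_centralizer_singleton_iff.2 (by rw [mul_assoc, hut])⟩)
      (Subtype.ext hu2) (fun e => hu1 (congrArg Subtype.val e)) (fun e => hut' (congrArg Subtype.val e))
      (Subtype.ext htu)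
      (fun e => hut' (by
        have e' : t * u = 1 := congrArg Subtype.val e
        rw [← one_mul u, ← htt, mul_assoc, e', mul_one]))
      (fun e => hu1 (by
        have e' : t * u = t := congrArg Subtype.val e
        exact mul_eq_left.1 e'))
    have hc' : (c : G) * u * (c : G)⁻¹ = t * u := congrArg Subtype.val hc
    have hct : (c : G) * t * (c : G)⁻¹ = t := by
      rw [Subgroup.mem_centralizer_singleton_iff.1 c.2, mul_inv_cancel_right]
    refine ⟨g * c * g⁻¹, ?_, ?_⟩
    · rw [show g * (c : G) * g⁻¹ * t * (g * c * g⁻¹)⁻¹ = g * (c * (g⁻¹ * t * g) * (c : G)⁻¹) * g⁻¹ by group, ← hu,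
        hc', show g * (t * u) * g⁻¹ = g * t * g⁻¹ * (g * u * g⁻¹) by group, hg, hgu, hbC]
    · calc g * (c : G) * g⁻¹ * B.iota bm * (g * c * g⁻¹)⁻¹ = g * (c * (g⁻¹ * B.iota bm * g) * (c : G)⁻¹) * g⁻¹ := by
            group
        _ = B.iota bm := by
            rw [show g⁻¹ * B.iota bm * g = t by rw [← hg]; group, hct, hg]
  obtain ⟨w₀, hw0t, hw0b, hw0tb, -⟩ := exists_mover B hn hπ 0
  obtain ⟨w₁, hw1b⟩ : ∃ w₁ : G, w₁ = w₀ * d := ⟨_, rfl⟩
  have o1 : w₁ * t * w₁⁻¹ = B.iota bm := by
    rw [hw1b, show w₀ * d * t * (w₀ * d)⁻¹ = w₀ * (d * t * d⁻¹) * w₀⁻¹ by group, hdt, hw0tb]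
  have o2 : w₁ * B.iota bm * w₁⁻¹ = t * B.iota bm := by
    rw [hw1b, show w₀ * d * B.iota bm * (w₀ * d)⁻¹ = w₀ * (d * B.iota bm * d⁻¹) * w₀⁻¹ by group, hdb, hw0b]
  -- the square fixes both subgroups
  let E : Fin 2 → Subgroup G := fun k => (esub (setup co₀ k)).map B.iota
  have hEne : E 0 ≠ E 1 := fun e => esub₀_ne (Subgroup.map_injective B.inj e)
  have hEmem : ∀ k, t ∈ E k ∧ B.iota bm ∈ E k := fun k =>
    ⟨⟨_, ⟨1, rfl⟩, by rw [eG_one, B.map_t]⟩, ⟨_, ⟨2, rfl⟩, by rw [eG_two]; rfl⟩⟩
  have himg : ∀ k, ∃ l, (E k).map (MulAut.conj w₁).toMonoidHom = E l := by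
    intro k
    have hm : ∀ x ∈ E k, w₁ * x * w₁⁻¹ ∈ (E k).map (MulAut.conj w₁).toMonoidHom := fun x hx => ⟨x, hx, rfl⟩
    have hb' := hm _ (hEmem k).1
    rw [o1] at hb'
    have htb' := hm _ (hEmem k).2
    rw [o2] at htb'
    have ht' : t ∈ (E k).map (MulAut.conj w₁).toMonoidHom := by
      have := mul_mem htb' hb'
      rwa [mul_assoc, hb2, mul_one] at this
    have hsq : ∀ y ∈ (E k).map (MulAut.conj w₁).toMonoidHom, y * y = 1 := by
      rintro _ ⟨_, ⟨_, ⟨i, rfl⟩, rfl⟩, rfl⟩
      rw [← map_mul, ← map_mul, (setup co₀ k).mul, xr_self, eG_zero, map_one, map_one]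
    have hcard : Nat.card ((E k).map (MulAut.conj w₁).toMonoidHom) = 16 := by
      rw [Subgroup.card_map_of_injective (MulAut.conj w₁).injective, Subgroup.card_map_of_injective B.inj,
        (setup co₀ k).card_esub]
    rcases elem_uniq B hn hπ ht hcard ht' hb' hsq with e | e
    · exact ⟨0, e⟩
    · exact ⟨1, e⟩
  choose σ hσ using himg
  have hσi : Function.Injective σ := fun a b e => by
    have h := Subgroup.map_injective (f := (MulAut.conj w₁).toMonoidHom) (MulAut.conj w₁).injective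
      ((hσ a).trans ((congrArg E e).trans (hσ b).symm))
    fin_cases a <;> fin_cases b <;> first | rfl | exact absurd h hEne | exact absurd h.symm hEne
  have hσσ : σ (σ k) = k := (by decide +kernel : ∀ s : Fin 2 → Fin 2, Function.Injective s → ∀ k, s (s k) = k) σ hσi k
  have hnorm : w₁ * w₁ ∈ Subgroup.normalizer (eSet B.iota k) := by
    rw [← coe_esubS B k]
    have hmap : (E k).map (MulAut.conj (w₁ * w₁)).toMonoidHom = E k := by
      conv_rhs => rw [← hσσ, ← hσ, ← hσ, Subgroup.map_map]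
      congr 1
      ext x
      simp [MulAut.conj_apply, mul_assoc]
    refine Subgroup.mem_normalizer_iff.2 fun y => ⟨fun hy => ?_, fun hy => ?_⟩
    · exact hmap.le ⟨y, hy, rfl⟩
    · obtain ⟨z, hz, hzy⟩ := hmap.ge hy
      exact (MulAut.conj (w₁ * w₁)).injective hzy ▸ hz
  obtain ⟨w, hwt, -, hwtb, hwN⟩ := exists_mover B hn hπ k
  refine ⟨w * (w₁ * w₁), ?_, ?_, mul_mem hwN hnorm⟩
  · rw [show w * (w₁ * w₁) * t * (w * (w₁ * w₁))⁻¹ = w * (w₁ * (w₁ * t * w₁⁻¹) * w₁⁻¹) * w⁻¹ by group, o1, o2, hwtb]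
  · rw [show w * (w₁ * w₁) * B.iota bm * (w * (w₁ * w₁))⁻¹ = w * (w₁ * (w₁ * B.iota bm * w₁⁻¹) * w₁⁻¹) * w⁻¹ by
      group, o2, show w₁ * (t * B.iota bm) * w₁⁻¹ = w₁ * t * w₁⁻¹ * (w₁ * B.iota bm * w₁⁻¹) by group, o1, o2,
      show B.iota bm * (t * B.iota bm) = t by rw [← mul_assoc, hbC, mul_assoc, hb2, mul_one], hwt]

omit hn hπ in
/-- **A subgroup of McLaughlin type over the cover of degree eight.** -/
theorem exists_mcl_below (hn : n = 9 ∨ n = 10) (ht : orderOf t = 2) (hπ : AltCover.Cover π (tC t))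
    (hcl : ∀ u : G, orderOf u = 2 → IsConj u t) (B : Below t π) :
    ∃ M : Subgroup G, B.iota.range ≤ M ∧ Nonempty (↥M ≃* ↥McLRec.Mgrp) :=
  McLSub.exists_mcl (toSub B hn hπ) fun k => exists_swap_below B hn hπ ht hcl k

end CfsgLib.CoverType
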